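import Cfsg.Agent.Lib.SuzSeven52.Card
import Cfsg.Agent.Lib.SuzTypeCount11.Types
import Mathlib.GroupTheory.Transfer

/-!
# Suzuki type: the complement `PSL(3, 4)` in the centraliser of the four-group

The two bits of the action parameter retract the coded Sylow subgroup onto the four-group; the kernel
of the transfer is a complement containing every conjugate of `z`.

Owner: helper99.
-/

set_option autoImplicit false
set_option maxRecDepth 100000

namespace Cfsg.Agent.Lib.SuzUniq99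

open Cfsg.Agent.Lib.SuzType52 Cfsg.Agent.Lib.SuzSeven52

/-- A bit as an element of the field with two elements. -/
def bz (b : Bool) : ZMod 2 := bif b then 1 else 0

theorem bz_xor (a b : Bool) : bz (Bool.xor a b) = bz a + bz b := by
  cases a <;> cases b <;> rfl

/-- The complement. -/
structure Comp {G : Type*} [Group G] (z w v : G) (L : Subgroup G) : Prop where
  le : L ≤ CV w v
  inf : ∀ a ∈ L, a ∈ Subgroup.closure ({w, v} : Set G) → a = 1
  split : ∀ y ∈ CV w v, ∃ a ∈ Subgroup.closure ({w, v} : Set G), a * y ∈ L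
  conj : ∀ y ∈ CV w v, ∀ l ∈ L, y * l * y⁻¹ ∈ L
  ztype : ∀ i ∈ CV w v, IsConj z i → i ∈ L

theorem testBit_mu {m m' i : ℕ} (hi : i < 8) :
    (mu m m').testBit i = Bool.xor (m.testBit i) (m'.testBit i) := by
  rw [mu, Nat.testBit_xor, Nat.testBit_xor, Nat.testBit_shiftLeft, decide_eq_false (by omega),
    Bool.false_and, Bool.xor_false]

theorem bits_wv : wc.testBit 2 = true ∧ wc.testBit 3 = false ∧
    ∀ e < 4, (vc e).testBit 2 = false ∧ (vc e).testBit 3 = true := by decide +kernel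

variable {G : Type*} [Group G] [Finite G] {z : G} {Q : Subgroup G} {co : G → ℕ} {ac : G → ℕ → ℕ}
  {x n : G} {gen : ℕ → G} {w v g q r : G}

theorem exists_retract (p : Pack z Q co ac x n gen w v g q r) :
    ∃ ψ : ↥((CZ z w v).subgroupOf (CV w v)) →* Multiplicative (ZMod 2 × ZMod 2),
      ∀ y : ↥((CZ z w v).subgroupOf (CV w v)), ∀ m ∈ Ml, phi gen z x m = ((y : CV w v) : G) →
        ψ y = Multiplicative.ofAdd (bz (m.testBit 2), bz (m.testBit 3)) := by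
  classical
  have hex : ∀ y : ↥((CZ z w v).subgroupOf (CV w v)), ∃ m ∈ Ml, phi gen z x m = ((y : CV w v) : G) :=
    fun y => p.mem_CZ.1 (Subgroup.mem_subgroupOf.1 y.2)
  choose c hc hce using hex
  have hval : ∀ y : ↥((CZ z w v).subgroupOf (CV w v)), ∀ m ∈ Ml, phi gen z x m = ((y : CV w v) : G) → m = c y := fun y m hm hy =>
    phi_inj p.std.duo p.std.gens (mem_Ml.1 hm).1 (mem_Ml.1 (hc y)).1 (hy.trans (hce y).symm)
  let F : ℕ → Multiplicative (ZMod 2 × ZMod 2) := fun m =>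
    Multiplicative.ofAdd (bz (m.testBit 2), bz (m.testBit 3))
  have hmul : ∀ y y' : ↥((CZ z w v).subgroupOf (CV w v)), F (c (y * y')) = F (c y) * F (c y') := by
    intro y y'
    have hlt := mu_lt (mem_Ml.1 (hc y)).1 (mem_Ml.1 (hc y')).1
    have h : c (y * y') = mu (c y) (c y') :=
      phi_inj p.std.duo p.std.gens (mem_Ml.1 (hc (y * y'))).1 hlt (by
        rw [hce, ← p.std.mul, hce, hce]
        rfl)
    rw [h]
    show Multiplicative.ofAdd _ = _
    rw [testBit_mu (by norm_num), testBit_mu (by norm_num), bz_xor, bz_xor]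
    rfl
  refine ⟨MonoidHom.mk' (fun y => F (c y)) hmul, fun y m hm hy => ?_⟩
  rw [hval y m hm hy]
  rfl

theorem exists_comp (p : Pack z Q co ac x n gen w v g q r) : ∃ L : Subgroup G, Comp z w v L := by
  classical
  set H := (CZ z w v).subgroupOf (CV w v) with hH
  obtain ⟨ψ, hψ⟩ := exists_retract p
  let τ : ↥(CV w v) →* Multiplicative (ZMod 2 × ZMod 2) := MonoidHom.transfer ψ
  have hidx : H.index = 315 := by
    have h := Subgroup.card_mul_index H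
    rw [hH, Nat.card_congr (Subgroup.subgroupOfEquivOfLe p.CZ_le_CV).toEquiv, p.card_CZ, p.card_CV] at h
    rw [hH]
    omega
  have hτV : ∀ a (ha : a ∈ Subgroup.closure ({w, v} : Set G)),
      τ ⟨a, p.CZ_le_CV (p.V_le_CZ ha)⟩ =
        ψ ⟨⟨a, p.CZ_le_CV (p.V_le_CZ ha)⟩, Subgroup.mem_subgroupOf.2 (p.V_le_CZ ha)⟩ := by
    intro a ha
    have key : ∀ (k : ℕ) (g₀ : ↥(CV w v)),
        g₀⁻¹ * (⟨a, p.CZ_le_CV (p.V_le_CZ ha)⟩ : ↥(CV w v)) ^ k * g₀ ∈ H →
          g₀⁻¹ * (⟨a, p.CZ_le_CV (p.V_le_CZ ha)⟩ : ↥(CV w v)) ^ k * g₀ =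
            (⟨a, p.CZ_le_CV (p.V_le_CZ ha)⟩ : ↥(CV w v)) ^ k := by
      intro k g₀ _
      apply Subtype.ext
      show (g₀ : G)⁻¹ * a ^ k * g₀ = a ^ k
      rw [mul_assoc, ((comm_closure ha g₀.2).pow_right k).symm.eq, inv_mul_cancel_left]
    show MonoidHom.transfer ψ _ = _
    rw [MonoidHom.transfer_eq_pow ψ _ key]
    congr 1
    apply Subtype.ext
    apply Subtype.ext
    show a ^ H.index = a
    rw [hidx, show 315 = 2 * 157 + 1 from rfl, pow_succ, pow_mul, pow_two, p.V_sq ha, one_pow, one_mul]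
  clear_value τ
  have hz' : ∀ i (hi : i ∈ CV w v), IsConj z i →
      τ ⟨i, hi⟩ = τ ⟨z, p.CZ_le_CV p.z_mem⟩ := by
    intro i hi hc
    have hi2 : i * i = 1 := (sq_of_isConj p.std.duo.fr.es.sq p.std.duo.fr.es.ne hc).1
    obtain ⟨a, ha, e⟩ := p.ztype_conj hi hc hi2
    have h : τ (⟨a, ha⟩ * ⟨i, hi⟩ * ⟨a, ha⟩⁻¹) = τ ⟨z, p.CZ_le_CV p.z_mem⟩ :=
      congrArg τ (Subtype.ext e)
    rwa [map_mul, map_mul, map_inv, mul_right_comm, mul_inv_cancel, one_mul] at h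
  have hz1 : τ ⟨z, p.CZ_le_CV p.z_mem⟩ = 1 := by
    have h1 := hz' x (p.CZ_le_CV p.x_mem) (p.ee_ztype (Or.inr (Or.inl rfl)))
    have h2 := hz' (x * z) (p.CZ_le_CV (mul_mem p.x_mem p.z_mem)) (p.ee_ztype (Or.inr (Or.inr rfl)))
    have h3 : τ (⟨x, p.CZ_le_CV p.x_mem⟩ * ⟨z, p.CZ_le_CV p.z_mem⟩) =
        τ ⟨z, p.CZ_le_CV p.z_mem⟩ := h2
    rw [map_mul, h1] at h3
    exact mul_eq_left.1 h3
  obtain ⟨e, he, hwc, hvc⟩ := p.code
  obtain ⟨bw2, bw3, bv⟩ := bits_wv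
  obtain ⟨bv2, bv3⟩ := bv e he
  have hMl : ∀ {a : G}, a ∈ Subgroup.closure ({w, v} : Set G) →
      ∀ {m}, m < 1024 → phi gen z x m = a → m ∈ Ml := by
    intro a ha m hm hma
    obtain ⟨m', hm', e'⟩ := p.mem_CZ.1 (p.V_le_CZ ha)
    rwa [phi_inj p.std.duo p.std.gens hm (mem_Ml.1 hm').1 (hma.trans e'.symm)]
  have hwV : w ∈ Subgroup.closure ({w, v} : Set G) := Subgroup.subset_closure (by simp)
  have hvV : v ∈ Subgroup.closure ({w, v} : Set G) := Subgroup.subset_closure (by simp)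
  have hτw : τ ⟨w, p.CZ_le_CV (p.V_le_CZ hwV)⟩ = Multiplicative.ofAdd (1, 0) := by
    rw [hτV w hwV, hψ _ wc (hMl hwV wc_spec.1 hwc.symm) hwc.symm, bw2, bw3]
    rfl
  have hτv : τ ⟨v, p.CZ_le_CV (p.V_le_CZ hvV)⟩ = Multiplicative.ofAdd (0, 1) := by
    rw [hτV v hvV, hψ _ (vc e) (hMl hvV (vc_spec e he).1 hvc.symm) hvc.symm, bv2, bv3]
    rfl
  have hτ11 : ∀ h : v * w ∈ CV w v, τ ⟨v * w, h⟩ = Multiplicative.ofAdd (1, 1) := fun h => by
    have : (⟨v * w, h⟩ : ↥(CV w v)) = ⟨v, p.CZ_le_CV (p.V_le_CZ hvV)⟩ * ⟨w, p.CZ_le_CV (p.V_le_CZ hwV)⟩ :=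
      rfl
    rw [this, map_mul, hτw, hτv]
    rfl
  refine ⟨τ.ker.map (CV w v).subtype, Subgroup.map_subtype_le _, ?_, ?_, ?_, ?_⟩
  · rintro _ ⟨⟨a, haC⟩, hker, rfl⟩ ha
    have hker' : τ ⟨a, haC⟩ = 1 := hker
    rcases p.mem_V.1 ha with h | h | h | h
    · exact h
    all_goals change a = _ at h
    all_goals subst h
    · rw [hτw] at hker'; exact absurd hker' (by decide)
    · rw [hτv] at hker'; exact absurd hker' (by decide)
    · rw [hτ11] at hker'; exact absurd hker' (by decide)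
  · intro y hy
    have hcases : ∀ t : Multiplicative (ZMod 2 × ZMod 2), t = 1 ∨ t = Multiplicative.ofAdd (1, 0) ∨
        t = Multiplicative.ofAdd (0, 1) ∨ t = Multiplicative.ofAdd (1, 1) := by decide
    have hsq : ∀ t : Multiplicative (ZMod 2 × ZMod 2), t * t = 1 := by decide
    have hstep : ∀ a (ha : a ∈ Subgroup.closure ({w, v} : Set G)),
        τ ⟨a, p.CZ_le_CV (p.V_le_CZ ha)⟩ = τ ⟨y, hy⟩ →
          a * y ∈ τ.ker.map (CV w v).subtype := fun a ha h =>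
      ⟨⟨a, p.CZ_le_CV (p.V_le_CZ ha)⟩ * ⟨y, hy⟩, by
        show τ _ = 1
        rw [map_mul, h, hsq], rfl⟩
    rcases hcases (τ ⟨y, hy⟩) with h | h | h | h
    · exact ⟨1, one_mem _, ⟨⟨y, hy⟩, h, (one_mul y).symm⟩⟩
    · exact ⟨w, hwV, hstep w hwV (hτw.trans h.symm)⟩
    · exact ⟨v, hvV, hstep v hvV (hτv.trans h.symm)⟩
    · exact ⟨v * w, mul_mem hvV hwV, hstep _ (mul_mem hvV hwV) ((hτ11 _).trans h.symm)⟩
  · rintro y hy _ ⟨l, hl, rfl⟩
    exact ⟨⟨y, hy⟩ * l * ⟨y, hy⟩⁻¹, (MonoidHom.normal_ker τ).conj_mem l hl _, rfl⟩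
  · intro i hi hc
    exact ⟨⟨i, hi⟩, (hz' i hi hc).trans hz1, rfl⟩

namespace Comp

variable {L : Subgroup G} (h : Comp z w v L) (p : Pack z Q co ac x n gen w v g q r)
include h p

/-- The complement is the quotient. -/
theorem exists_equiv : ∃ e : ↥L ≃* WQ w v, ∀ l : ↥L, e l = bar w v (l : G) := by
  let φ : ↥L →* WQ w v := (QuotientGroup.mk' (V4 w v)).comp (Subgroup.inclusion h.le)
  have hφ : ∀ l : ↥L, φ l = bar w v (l : G) := fun l => (bar_of_mem (h.le l.2)).symm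
  refine ⟨MulEquiv.ofBijective φ ⟨?_, ?_⟩, hφ⟩
  · rw [injective_iff_map_eq_one]
    intro l hl
    rw [hφ, bar_eq_one (h.le l.2)] at hl
    exact Subtype.ext (h.inf _ l.2 hl)
  · intro t
    obtain ⟨y, hy, rfl⟩ := bar_surj t
    obtain ⟨a, ha, hay⟩ := h.split y hy
    refine ⟨⟨a * y, hay⟩, ?_⟩
    rw [hφ, bar_mul (p.CZ_le_CV (p.V_le_CZ ha)) hy, (bar_eq_one (p.CZ_le_CV (p.V_le_CZ ha))).2 ha,
      one_mul]

/-- All involutions of the complement are conjugates of `z`. -/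
theorem invol {i : G} (hi : i ∈ L) (h2 : orderOf i = 2) : IsConj z i := by
  obtain ⟨e, he⟩ := h.exists_equiv p
  have ho : orderOf (bar w v i) = 2 := by
    rw [← he ⟨i, hi⟩, MulEquiv.orderOf_eq, Subgroup.orderOf_mk, h2]
  obtain ⟨j, hj, hjb, hjz, -⟩ := p.exists_lift_z ho
  have heq : (⟨j, h.ztype j hj hjz⟩ : ↥L) = ⟨i, hi⟩ := e.injective (by rw [he, he]; exact hjb)
  have heq' : j = i := congrArg Subtype.val heq
  exact heq' ▸ hjz

omit p in
theorem z_mem (hz : z ∈ CV w v) : z ∈ L := h.ztype z hz (IsConj.refl z)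

end Comp

end Cfsg.Agent.Lib.SuzUniq99
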