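import Cfsg.Agent.Lib.SuzUniq99.KGroup

/-!
# Suzuki type: the `A₅` has an orbit of length five on the point of `x` and fixes a plane

Owner: helper99.
-/

set_option autoImplicit false
set_option maxRecDepth 100000
set_option synthInstance.maxSize 4000
set_option synthInstance.maxHeartbeats 200000

namespace Cfsg.Agent.Lib.SuzUniq99

open Cfsg.Agent.Lib.Involutions.Basic Cfsg.Agent.Lib.SuzType52 Cfsg.Agent.Lib.SuzSeven52
open Cfsg.Agent.Lib.SuzFive11 (mem_pair)

/-- The first element of the standard four-group. -/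
def W0 : A5 := ⟨Equiv.swap 0 1 * Equiv.swap 2 3, Equiv.Perm.mem_alternatingGroup.2 (by decide)⟩
/-- The second element of the standard four-group. -/
def V0 : A5 := ⟨Equiv.swap 0 2 * Equiv.swap 1 3, Equiv.Perm.mem_alternatingGroup.2 (by decide)⟩
/-- The rotation of the standard four-group. -/
def Y0 : A5 := ⟨Equiv.swap 1 2 * Equiv.swap 2 3, Equiv.Perm.mem_alternatingGroup.2 (by decide)⟩
/-- An involution outside the stabiliser of the point. -/
def T0 : A5 := ⟨Equiv.swap 0 4 * Equiv.swap 1 2, Equiv.Perm.mem_alternatingGroup.2 (by decide)⟩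

/-- The standard four-group. -/
def four0 : List A5 := [1, W0, V0, W0 * V0]
/-- The standard subgroup of order twelve. -/
def twelve : List A5 := four0 ++ four0.map (· * Y0) ++ four0.map (· * (Y0 * Y0))

theorem a5_normalise : ∀ a b : A5, a * a = 1 → b * b = 1 → a ≠ 1 → b ≠ 1 → a ≠ b → a * b = b * a →
    ∃ c : Equiv.Perm (Fin 5), c * (a : Equiv.Perm (Fin 5)) * c⁻¹ = W0 ∧
      c * (b : Equiv.Perm (Fin 5)) * c⁻¹ = V0 := by
  decide +kernel

theorem a5_std : Y0 * Y0 * Y0 = 1 ∧ Y0 * W0 * Y0⁻¹ = V0 ∧ Y0 * V0 * Y0⁻¹ = W0 * V0 ∨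
    Y0⁻¹ * Y0⁻¹ * Y0⁻¹ = 1 ∧ Y0⁻¹ * W0 * Y0⁻¹⁻¹ = V0 ∧ Y0⁻¹ * V0 * Y0⁻¹⁻¹ = W0 * V0 := by
  decide +kernel

theorem a5_decomp : ∀ t : A5, t ∈ twelve ∨ ∃ e ∈ four0, ∃ a ∈ twelve, t = e * T0 * a := by
  decide +kernel

theorem a5_T0 : T0 ∉ twelve ∧ T0 * T0 = 1 ∧ ∀ e ∈ four0, T0 * e * T0 ∈ twelve → e = 1 := by
  decide +kernel

theorem a5_two_conj : ∀ t : A5, ∃ c d : A5, t = c * W0 * c⁻¹ * (d * W0 * d⁻¹) := by
  decide +kernel

theorem a5_odd_gen : ∀ t : A5, ∃ c : A5, c ^ 3 = 1 ∧ (t * c) ^ 15 = 1 := by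
  decide +kernel

theorem a5_d : ∃ d : A5, d ∉ twelve ∧ d * d = 1 ∧ d ≠ 1 ∧ (d * W0) * (d * W0) * (d * W0) = 1 := by
  decide +kernel

theorem a5_twelve_three : ∀ u ∈ twelve, u * u * u = 1 → u ≠ 1 →
    (u * W0) * (u * W0) * (u * W0) = 1 := by
  decide +kernel

/-- The four images of a point under the four-group. -/
def orb4 (p : ℕ) : List ℕ := [p, eich 16 p, eich 32 p, eich 16 (eich 32 p)]

/-- The properties of the point moved to. -/
def ptOK (p : ℕ) : Bool :=
  !(qn p) && !(Nat.beq p 0) && decide ((1 :: orb4 p).Nodup) &&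
    (orb4 p).all (fun s => bn 1 s == bn 1 p) &&
    [eich 16 p, eich 32 p, eich 16 (eich 32 p)].all (fun s => bn p s == bn 1 p)

/-- The plane orthogonal to the differences. -/
def plane (p : ℕ) : List ℕ := (List.range 64).filter fun k => (orb4 p).all fun s => !(bn k (1 ^^^ s))

theorem pt_checks : (List.range 64).all (fun p => !(ptOK p) ||
    (bn 1 p && (plane p).all (fun k => Nat.beq (eich 16 k) k && Nat.beq (eich 32 k) k) &&
      ((plane p).any fun i => (plane p).any fun j => !(qn i) && !(qn j) && bn i j &&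
        (plane p).all (fun k => [0, i, j, i ^^^ j].contains k)) &&
      v4.all (fun a => !((orb4 p).all fun s => Nat.beq (eich a s) s) || Nat.beq a 0))) = true := by
  decide +kernel

variable {G : Type*} [Group G] [Finite G] {z : G} {Q : Subgroup G} {co : G → ℕ} {ac : G → ℕ → ℕ}
  {x n : G} {gen : ℕ → G} {w v g q r b : G}

theorem ac_w (p : Pack z Q co ac x n gen w v g q r) {k : ℕ} (hk : k < 64) :
    ac w k = eich 16 k ∧ ac v k = eich 32 k := by
  obtain ⟨e, he, hw, hv⟩ := p.code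
  obtain ⟨h1, h2, -⟩ := vc_spec e he
  have e1 : aOf wc = 16 := by decide
  constructor
  · rw [hw, phi_act p.std.duo p.std.gens wc_spec.1 k hk, e1]
  · rw [hv, phi_act p.std.duo p.std.gens h1 k hk, h2]

theorem ac_one {u : G} (d : Duo z Q co ac x n) (hu : Commute u z) (hux : Commute u x) : ac u 1 = 1 := by
  have h := d.fr.conj u hu x d.xQ
  rw [mul_inv_eq_iff_eq_mul.2 hux.eq, d.cox] at h
  exact h.symm

/-- The normalised isomorphism of the centraliser of `z, b`. -/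
theorem exists_theta (p : Pack z Q co ac x n gen w v g q r) {L : Subgroup G} (hL : Comp z w v L)
    (hbL : b ∈ L) (hb2 : b * b = 1) (h5 : orderOf (z * b) = 5) :
    ∃ θ : ↥(Subgroup.centralizer ({z, b} : Set G)) ≃* A5,
      (θ.symm W0 : G) = w ∧ (θ.symm V0 : G) = v := by
  obtain ⟨θ₀⟩ := exists_equiv_K p hL hbL hb2 h5
  obtain ⟨hvb, -, hvz, -, hvw⟩ := p.v_facts
  obtain ⟨hbw, hbv⟩ := mem_cent_two.1 (hL.le hbL)
  have hwK : w ∈ Subgroup.centralizer ({z, b} : Set G) := mem_pair.2 ⟨p.wz, hbw.symm⟩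
  have hvK : v ∈ Subgroup.centralizer ({z, b} : Set G) := mem_pair.2 ⟨hvz, hbv.symm⟩
  have hne : ∀ {u : G} (hu : u ∈ Subgroup.centralizer ({z, b} : Set G)), u ≠ 1 → θ₀ ⟨u, hu⟩ ≠ 1 :=
    fun hu h e => h (congrArg Subtype.val ((MulEquiv.map_eq_one_iff θ₀).1 e))
  have hsq : ∀ {u : G} (hu : u ∈ Subgroup.centralizer ({z, b} : Set G)), u * u = 1 →
      θ₀ ⟨u, hu⟩ * θ₀ ⟨u, hu⟩ = 1 := fun hu h => by
    rw [← map_mul, ← map_one θ₀]
    exact congrArg θ₀ (Subtype.ext h)
  obtain ⟨c, hca, hcb⟩ := a5_normalise (θ₀ ⟨w, hwK⟩) (θ₀ ⟨v, hvK⟩) (hsq hwK p.bt_w.sq) (hsq hvK hvb.sq)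
    (hne hwK p.bt_w.ne_one) (hne hvK hvb.ne_one)
    (fun e => p.bt_vw.ne_one (by
      have : w = v := congrArg Subtype.val (θ₀.injective e)
      rw [← this, p.bt_w.sq]))
    (by rw [← map_mul, ← map_mul]; exact congrArg θ₀ (Subtype.ext hvw.eq.symm))
  let θ : ↥(Subgroup.centralizer ({z, b} : Set G)) ≃* A5 :=
    θ₀.trans (MulAut.conjNormal (H := alternatingGroup (Fin 5)) c)
  have hw : θ ⟨w, hwK⟩ = W0 := Subtype.ext (by
    show ((MulAut.conjNormal c (θ₀ ⟨w, hwK⟩) : A5) : Equiv.Perm (Fin 5)) = _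
    rw [MulAut.conjNormal_apply, hca])
  have hv : θ ⟨v, hvK⟩ = V0 := Subtype.ext (by
    show ((MulAut.conjNormal c (θ₀ ⟨v, hvK⟩) : A5) : Equiv.Perm (Fin 5)) = _
    rw [MulAut.conjNormal_apply, hcb])
  exact ⟨θ, by rw [← hw, MulEquiv.symm_apply_apply], by rw [← hv, MulEquiv.symm_apply_apply]⟩

/-- What is used about the centraliser of `z, b`. -/
structure KFacts (z x w b : G) (Q : Subgroup G) (co : G → ℕ) (ac : G → ℕ → ℕ) (f₁ f₂ d : G) : Prop where
  f1Q : f₁ ∈ Q
  f2Q : f₂ ∈ Q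
  f1 : f₁ * f₁ = 1
  f2 : f₂ * f₂ = 1
  f12 : (f₁ * f₂) * (f₁ * f₂) = z
  fK : ∀ u ∈ Subgroup.centralizer ({z, b} : Set G), Commute u f₁ ∧ Commute u f₂
  fx : Commute f₁ x ∧ Commute f₂ x
  dK : d ∈ Subgroup.centralizer ({z, b} : Set G)
  d2 : d * d = 1
  dw : (d * w) * (d * w) * (d * w) = 1
  dx : bn 1 (ac d 1) = true

  twelve : ∀ u ∈ Subgroup.centralizer ({z, b} : Set G), Commute u x → u * u * u = 1 → u ≠ 1 →
    (u * w) * (u * w) * (u * w) = 1

theorem exists_kfacts (p : Pack z Q co ac x n gen w v g q r) {L : Subgroup G} (hL : Comp z w v L)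
    (hbL : b ∈ L) (hb2 : b * b = 1) (h5 : orderOf (z * b) = 5) :
    ∃ f₁ f₂ d, KFacts z x w b Q co ac f₁ f₂ d ∧
      ∀ y ∈ CZ z w v, (∀ u ∈ Subgroup.centralizer ({z, b} : Set G), Commute y u) →
        y ∈ ({1, z, f₁, f₂, f₁ * f₂, f₂ * f₁, f₁ * f₂ * f₁, f₂ * f₁ * f₂} : Set G) := by
  classical
  have dd := p.std.duo
  set K := Subgroup.centralizer ({z, b} : Set G) with hK
  obtain ⟨θ, hW, hV⟩ := exists_theta p hL hbL hb2 h5
  set kk : A5 → G := fun t => ((θ.symm t : ↥K) : G) with hkk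
  have kmul : ∀ s t, kk (s * t) = kk s * kk t := fun s t => by
    show ((θ.symm (s * t) : ↥K) : G) = _
    rw [map_mul]; rfl
  have kone : kk 1 = 1 := by
    show ((θ.symm 1 : ↥K) : G) = _
    rw [map_one]; rfl
  have kinv : ∀ t, kk t⁻¹ = (kk t)⁻¹ := fun t => by
    show ((θ.symm t⁻¹ : ↥K) : G) = _
    rw [map_inv]; rfl
  have kinj : ∀ {s t}, kk s = kk t → s = t := fun h => θ.symm.injective (Subtype.ext h)
  have ksurj : ∀ u ∈ K, ∃ t, kk t = u := fun u hu => ⟨θ ⟨u, hu⟩, by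
    show ((θ.symm (θ ⟨u, hu⟩) : ↥K) : G) = u
    rw [MulEquiv.symm_apply_apply]⟩
  have kz : ∀ t, Commute (kk t) z := fun t => (mem_pair.1 (θ.symm t).2).1
  set pp : A5 → ℕ := fun t => ac (kk t) 1 with hpp
  have h1lt : 1 < 64 := by norm_num
  have pplt : ∀ t, pp t < 64 := fun t => dd.fr.ac_lt (kz t) h1lt
  have ppmul : ∀ s t, pp (s * t) = ac (kk s) (pp t) := fun s t => by
    show ac (kk (s * t)) 1 = _
    rw [kmul, dd.fr.ac_mul (kz s) (kz t) h1lt]
  have hwx : Commute w x := p.wx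
  obtain ⟨hvb, -, hvz, hvx, hvw⟩ := p.v_facts
  -- the rotation fixes `x`
  obtain ⟨y, hy3, hyW, hyV, hy_eq⟩ : ∃ y : A5, y * y * y = 1 ∧ y * W0 * y⁻¹ = V0 ∧
      y * V0 * y⁻¹ = W0 * V0 ∧ (y = Y0 ∨ y = Y0⁻¹) := by
    rcases a5_std with ⟨h1, h2, h3⟩ | ⟨h1, h2, h3⟩
    · exact ⟨Y0, h1, h2, h3, Or.inl rfl⟩
    · exact ⟨Y0⁻¹, h1, h2, h3, Or.inr rfl⟩
  have hyx : Commute (kk y) x := by
    refine p.rot_x ?_ (kz y) ?_ ?_
    · rw [pow_three, ← kmul, ← kmul, ← mul_assoc, hy3, kone]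
    · rw [← kinv, ← hW]
      show kk y * kk W0 * kk y⁻¹ = _
      rw [← kmul, ← kmul, hyW]
      exact hV
    · rw [← kinv, ← hV, ← hW]
      show kk y * kk V0 * kk y⁻¹ = kk W0 * kk V0
      rw [← kmul, ← kmul, ← kmul, hyV]
  have hYx : Commute (kk Y0) x := by
    rcases hy_eq with rfl | rfl
    · exact hyx
    · rw [← inv_inv Y0, kinv]
      exact hyx.inv_left
  have h12x : ∀ t ∈ twelve, Commute (kk t) x := by
    have h4 : ∀ e ∈ four0, Commute (kk e) x := by
      intro e he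
      simp only [four0, List.mem_cons, List.not_mem_nil, or_false] at he
      rcases he with rfl | rfl | rfl | rfl
      · rw [kone]; exact Commute.one_left x
      · show Commute ((θ.symm W0 : ↥K) : G) x
        rw [hW]; exact hwx
      · show Commute ((θ.symm V0 : ↥K) : G) x
        rw [hV]; exact hvx
      · rw [kmul]
        show Commute (((θ.symm W0 : ↥K) : G) * ((θ.symm V0 : ↥K) : G)) x
        rw [hW, hV]; exact hwx.mul_left hvx
    intro t ht
    simp only [twelve, List.mem_append, List.mem_map] at ht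
    rcases ht with (ht | ⟨e, he, rfl⟩) | ⟨e, he, rfl⟩
    · exact h4 t ht
    · rw [kmul]; exact (h4 e he).mul_left hYx
    · rw [kmul, kmul]; exact (h4 e he).mul_left (hYx.mul_left hYx)
  have hfix : ∀ t ∈ twelve, pp t = 1 := fun t ht => ac_one dd (kz t) (h12x t ht)
  set P := pp T0 with hP
  have hacW : ∀ {k}, k < 64 → ac (kk W0) k = eich 16 k := fun hk => by
    show ac ((θ.symm W0 : ↥K) : G) _ = _
    rw [hW]; exact (ac_w p hk).1
  have hacV : ∀ {k}, k < 64 → ac (kk V0) k = eich 32 k := fun hk => by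
    show ac ((θ.symm V0 : ↥K) : G) _ = _
    rw [hV]; exact (ac_w p hk).2
  have hfour : ∀ e ∈ four0, pp (e * T0) ∈ orb4 P ∧
      (e ≠ 1 → pp (e * T0) ∈ [eich 16 P, eich 32 P, eich 16 (eich 32 P)]) := by
    intro e he
    rw [ppmul]
    simp only [four0, List.mem_cons, List.not_mem_nil, or_false] at he
    rcases he with rfl | rfl | rfl | rfl
    · rw [kone, dd.fr.ac_Q (one_mem Q) (pplt T0)]
      exact ⟨by simp [orb4, hP], fun h => absurd rfl h⟩
    · rw [hacW (pplt T0)]; exact ⟨by simp [orb4, hP], fun _ => by simp [hP]⟩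
    · rw [hacV (pplt T0)]; exact ⟨by simp [orb4, hP], fun _ => by simp [hP]⟩
    · rw [kmul, dd.fr.ac_mul (kz W0) (kz V0) (pplt T0), hacV (pplt T0),
        hacW (by rw [← hacV (pplt T0)]; exact dd.fr.ac_lt (kz V0) (pplt T0))]
      exact ⟨by simp [orb4, hP], fun _ => by simp [hP]⟩
  have hppA : ∀ s, ∀ a ∈ twelve, pp (s * a) = pp s := fun s a ha => by rw [ppmul, hfix a ha]
  have hcases : ∀ t, pp t = 1 ∧ t ∈ twelve ∨ pp t ∈ orb4 P ∧ ∃ e ∈ four0, pp t = pp (e * T0) := by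
    intro t
    rcases a5_decomp t with h | ⟨e, he, a, ha, rfl⟩
    · exact Or.inl ⟨hfix t h, h⟩
    · rw [hppA _ a ha]
      exact Or.inr ⟨(hfour e he).1, e, he, rfl⟩
  -- the point is moved
  have hP1 : P ≠ 1 := by
    intro hP0
    have hall : ∀ t, pp t = 1 := by
      intro t
      rcases a5_decomp t with h | ⟨e, he, a, ha, rfl⟩
      · exact hfix t h
      · rw [hppA _ a ha, ppmul, ← hP, hP0]
        exact hfix e (by simp [twelve, he])
    -- then everything is trivial on the perpendicular modulo the point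
    have htr : ∀ t, ∀ k < 64, b1 k = false → ac (kk t) k = k ∨ ac (kk t) k = k ^^^ 1 := by
      have hW' : ∀ k < 64, b1 k = false → ac (kk W0) k = k ∨ ac (kk W0) k = k ^^^ 1 := fun k hk hb => by
        rw [hacW hk, eich_trivial (by decide) hk hb]
        cases bn 16 k
        · exact Or.inl rfl
        · exact Or.inr rfl
      have hb1 : ∀ t, ∀ k < 64, b1 (ac (kk t) k) = b1 k := fun t k hk =>
        (dd.fr.iso (kz t)).b1_eq' (hall t) hk
      have hconj : ∀ c, ∀ k < 64, b1 k = false →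
          ac (kk (c * W0 * c⁻¹)) k = k ∨ ac (kk (c * W0 * c⁻¹)) k = k ^^^ 1 := by
        intro c k hk hb
        have hk' := dd.fr.ac_lt (kz c⁻¹) hk
        rw [kmul, kmul, dd.fr.ac_mul ((kz c).mul_left (kz W0)) (kz c⁻¹) hk,
          dd.fr.ac_mul (kz c) (kz W0) hk']
        have hinv : ac (kk c) (ac (kk c⁻¹) k) = k := by
          rw [kinv, dd.fr.ac_inv' (kz c) hk]
        rcases hW' _ hk' (by rw [hb1 _ _ hk, hb]) with h | h <;> rw [h]
        · exact Or.inl hinv
        · exact Or.inr (by rw [dd.fr.ac_xor (kz c) hk' h1lt, hinv]; exact congrArg _ (hall c))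
      intro t k hk hb
      obtain ⟨c, e, rfl⟩ := a5_two_conj t
      rw [kmul, dd.fr.ac_mul (kz _) (kz _) hk]
      rcases hconj e k hk hb with h | h <;> rw [h]
      · exact hconj c k hk hb
      · rw [dd.fr.ac_xor (kz _) hk h1lt, show ac (kk (c * W0 * c⁻¹)) 1 = 1 from hall _]
        rcases hconj c k hk hb with h' | h' <;> rw [h']
        · exact Or.inr rfl
        · exact Or.inl (by rw [Nat.xor_assoc, Nat.xor_self, Nat.xor_zero])
    have hsq : ∀ t, kk t * kk t ∈ Q := fun t => by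
      obtain ⟨a, ha, h⟩ := (dd.fr.iso (kz t)).eich_of_radical (hall t) (htr t)
      refine dd.fr.faithful _ ((kz t).mul_left (kz t)) fun k hk => ?_
      rw [dd.fr.ac_mul (kz t) (kz t) hk, h k hk, h _ (eich_lt ha hk), eich_self ha hk]
    have h4 : kk Y0 ∈ Q := by
      have e : Y0 = (Y0 * Y0) * (Y0 * Y0) := by decide +kernel
      rw [e, kmul]
      exact hsq _
    have h3 : kk Y0 * kk Y0 * kk Y0 = 1 := by
      rw [← kmul, ← kmul, show Y0 * Y0 * Y0 = 1 by decide +kernel, kone]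
    have h2 := dd.fr.sq _ h4
    have hY2 : kk Y0 * kk Y0 = 1 ∨ kk Y0 * kk Y0 = z := by
      rw [h2]
      cases qn (co (kk Y0))
      · exact Or.inl rfl
      · exact Or.inr rfl
    have hne : kk Y0 ≠ 1 := fun e => absurd (kinj (e.trans kone.symm)) (by decide +kernel)
    rcases hY2 with e | e
    · rw [e, one_mul] at h3; exact hne h3
    · rw [e] at h3
      have hYz : kk Y0 = z := by
        calc kk Y0 = z * (z * kk Y0) := by rw [← mul_assoc, dd.fr.es.sq, one_mul]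
          _ = z := by rw [h3, mul_one]
      rw [hYz, dd.fr.es.sq] at e
      exact dd.fr.es.ne e.symm
  have hout : ∀ e ∈ four0, pp (e * T0) ≠ 1 := by
    intro e he h
    refine hP1 ?_
    have hemem : e⁻¹ ∈ twelve := (by decide +kernel : ∀ e ∈ four0, e⁻¹ ∈ twelve) e he
    rw [hP, show T0 = e⁻¹ * (e * T0) by group, ppmul, h]
    exact hfix _ hemem
  have hdist : ∀ e ∈ four0, pp (e * T0) = P → e = 1 := by
    intro e he h
    refine a5_T0.2.2 e he ?_
    have h' : pp (T0 * (e * T0)) = 1 := by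
      rw [ppmul, h, hP, ← ppmul, a5_T0.2.1]
      show ac (kk 1) 1 = 1
      rw [kone, dd.fr.ac_Q (one_mem Q) h1lt]
    rw [← mul_assoc] at h'
    rcases a5_decomp (T0 * e * T0) with h0 | ⟨e', he', a, ha, heq⟩
    · exact h0
    · exfalso
      refine hout e' he' ?_
      rw [← hppA _ a ha, ← heq, h']
  have hbn : ∀ s t, bn (pp s) (pp t) = bn 1 (pp (s⁻¹ * t)) := by
    intro s t
    rw [show pp t = ac (kk s) (pp (s⁻¹ * t)) by rw [← ppmul, mul_inv_cancel_left]]
    exact dd.fr.ac_bn (kz s) h1lt (pplt _)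
  have hqP : qn P = false := by
    rw [hP, hpp, dd.fr.ac_qn (kz T0) h1lt]; decide +kernel
  have hPlt : P < 64 := pplt T0
  have hOK : ptOK P = true := by
    have hm : ∀ {e}, e ∈ four0 → e ≠ 1 → pp (e * T0) ≠ P := fun he h e' => h (hdist _ he e')
    have eW : pp (W0 * T0) = eich 16 P := by rw [ppmul, hacW hPlt]
    have eV : pp (V0 * T0) = eich 32 P := by rw [ppmul, hacV hPlt]
    have eWV : pp (W0 * V0 * T0) = eich 16 (eich 32 P) := by
      rw [mul_assoc, ppmul, eV, hacW (by rw [← eV]; exact pplt _)]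
    have eWV2 : eich 16 (eich 32 P) = ac (kk W0) (pp (V0 * T0)) := by rw [← eWV, mul_assoc, ppmul]
    have mW : W0 ∈ four0 := by simp [four0]
    have mV : V0 ∈ four0 := by simp [four0]
    have mWV : W0 * V0 ∈ four0 := by simp [four0]
    have hW1 : W0 ≠ 1 := by decide +kernel
    have hV1 : V0 ≠ 1 := by decide +kernel
    have hWV1 : W0 * V0 ≠ 1 := by decide +kernel
    have o1 : ∀ {e}, e ∈ four0 → bn 1 (pp (e * T0)) = bn 1 P := fun {e} he => by
      rw [ppmul]
      have hin : e ∈ twelve := by simp [twelve, he]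
      have h1 : ac (kk e) 1 = 1 := hfix e hin
      conv_lhs => rw [← h1]
      exact dd.fr.ac_bn (kz e) h1lt hPlt
    have o2 : ∀ {e}, e ∈ four0 → e ≠ 1 → bn P (pp (e * T0)) = bn 1 P := fun {e} he h => by
      rw [hP, hbn]
      rcases hcases (T0⁻¹ * (e * T0)) with ⟨h1, h2⟩ | ⟨-, e', he', h2⟩
      · exfalso
        refine h (a5_T0.2.2 e he ?_)
        rwa [inv_eq_of_mul_eq_one_right a5_T0.2.1, ← mul_assoc] at h2
      · rw [h2]; exact o1 he'
    have nd : (1 :: orb4 P).Nodup := by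
      have n1 := hout 1 (by simp [four0])
      rw [one_mul] at n1
      have d1 := hm mW hW1
      have d2 := hm mV hV1
      have d3 := hm mWV hWV1
      have d4 : eich 16 P ≠ eich 32 P := by
        rw [← eW, ← eV]
        intro e
        refine d3 ?_
        rw [mul_assoc, ppmul, ← e, ← ppmul, ← mul_assoc, show W0 * W0 = 1 by decide +kernel, one_mul]
      have d5 : eich 16 P ≠ eich 16 (eich 32 P) := by
        rw [← eW, ← eWV]
        intro e
        refine d2 ?_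
        have := congrArg (ac (kk W0)) e
        rw [← ppmul, ← ppmul, ← mul_assoc, ← mul_assoc, ← mul_assoc, show W0 * W0 = 1 by decide +kernel,
          one_mul, one_mul] at this
        exact this.symm
      have d6 : eich 32 P ≠ eich 16 (eich 32 P) := by
        rw [← eWV, ← eV]
        intro e
        refine d1 ?_
        have := congrArg (ac (kk V0)) e
        rw [← ppmul, ← ppmul, ← mul_assoc, ← mul_assoc, ← mul_assoc, show V0 * V0 = 1 by decide +kernel,
          show V0 * W0 * V0 = W0 by decide +kernel, one_mul] at this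
        exact this.symm
      have a1 := hout _ mW
      have a2 := hout _ mV
      have a3 := hout _ mWV
      rw [eW] at a1 d1
      rw [eV] at a2 d2
      rw [eWV] at a3 d3
      simp only [orb4, List.nodup_cons, List.mem_cons, List.not_mem_nil, or_false, not_or,
        List.nodup_nil, and_true, not_false_eq_true]
      exact ⟨⟨Ne.symm n1, Ne.symm a1, Ne.symm a2, Ne.symm a3⟩, ⟨Ne.symm d1, Ne.symm d2, Ne.symm d3⟩,
        ⟨d4, d5⟩, d6⟩
    have hP0 : P ≠ 0 := fun e => by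
      have h := congrArg (ac (kk T0)) e
      rw [hP, ← ppmul, a5_T0.2.1, (dd.fr.iso (kz T0)).zero] at h
      have : pp 1 = 1 := hfix 1 (by simp [twelve, four0])
      rw [this] at h
      exact absurd h one_ne_zero
    simp only [ptOK, hqP, Bool.not_false, Bool.true_and, Bool.and_eq_true, decide_eq_true_eq,
      List.all_eq_true, beq_iff_eq, Bool.not_eq_true']
    refine ⟨⟨⟨?_, nd⟩, ?_⟩, ?_⟩
    · exact Bool.eq_false_iff.2 fun h => hP0 (Nat.eq_of_beq_eq_true h)
    · intro s hs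
      simp only [orb4, List.mem_cons, List.not_mem_nil, or_false] at hs
      rcases hs with rfl | rfl | rfl | rfl
      exacts [rfl, eW ▸ o1 mW, eV ▸ o1 mV, eWV ▸ o1 mWV]
    · intro s hs
      simp only [List.mem_cons, List.not_mem_nil, or_false] at hs
      rcases hs with rfl | rfl | rfl
      exacts [eW ▸ o2 mW hW1, eV ▸ o2 mV hV1, eWV ▸ o2 mWV hWV1]
  have hchk := List.all_eq_true.1 pt_checks P (List.mem_range.2 hPlt)
  rw [hOK] at hchk
  simp only [Bool.not_true, Bool.false_or, Bool.and_eq_true, List.any_eq_true, List.all_eq_true,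
    Bool.not_eq_true', Bool.or_eq_true, List.contains_eq_mem, decide_eq_true_eq] at hchk
  obtain ⟨⟨⟨hb1P, hfixP⟩, ⟨i, hi, j, hj, ⟨⟨hqi, hqj⟩, hij⟩, hspan⟩⟩, hinj⟩ := hchk
  have hb1' : ∀ t, t ∉ twelve → bn 1 (pp t) = true := by
    intro t ht
    rcases hcases t with ⟨-, h⟩ | ⟨hmem, -⟩
    · exact absurd h ht
    · simp only [ptOK, Bool.and_eq_true, List.all_eq_true, beq_iff_eq] at hOK
      rw [hOK.1.2 _ hmem]
      exact hb1P
  have mem_plane : ∀ {k}, k ∈ plane P ↔ k < 64 ∧ ∀ t, bn k (1 ^^^ pp t) = false := by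
    intro k
    simp only [plane, List.mem_filter, List.mem_range, List.all_eq_true, Bool.not_eq_true']
    refine ⟨fun ⟨h1, h2⟩ => ⟨h1, fun t => ?_⟩, fun ⟨h1, h2⟩ => ⟨h1, fun s hs => ?_⟩⟩
    · rcases hcases t with ⟨e, -⟩ | ⟨hm, -⟩
      · rw [e, Nat.xor_self]
        exact (by decide +kernel : ∀ k < 64, bn k 0 = false) k h1
      · exact h2 _ hm
    · obtain ⟨t, rfl⟩ : ∃ t, pp t = s := by
        simp only [orb4, List.mem_cons, List.not_mem_nil, or_false] at hs
        rcases hs with rfl | rfl | rfl | rfl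
        · exact ⟨T0, rfl⟩
        · exact ⟨W0 * T0, by rw [ppmul, hacW hPlt]⟩
        · exact ⟨V0 * T0, by rw [ppmul, hacV hPlt]⟩
        · refine ⟨W0 * (V0 * T0), ?_⟩
          rw [ppmul, ppmul, hacV hPlt, hacW (by rw [← hacV hPlt]; exact dd.fr.ac_lt (kz V0) hPlt)]
      exact h2 t
  have hbn3 : ∀ {k a c}, k < 64 → a < 64 → c < 64 → bn k (a ^^^ c) = Bool.xor (bn k a) (bn k c) :=
    fun {k a c} hk ha hc => bn_add hk ha hc
  have hinvP : ∀ s, ∀ k ∈ plane P, ac (kk s) k ∈ plane P := by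
    intro s k hk
    obtain ⟨hk1, hk2⟩ := mem_plane.1 hk
    refine mem_plane.2 ⟨dd.fr.ac_lt (kz s) hk1, fun t => ?_⟩
    have h1 := hk2 s⁻¹
    have h2 := hk2 (s⁻¹ * t)
    rw [hbn3 hk1 h1lt (pplt _)] at h1 h2
    have e1 : (1 : ℕ) = ac (kk s) (pp s⁻¹) := by
      rw [← ppmul, mul_inv_cancel]
      exact (hfix 1 (by simp [twelve, four0])).symm
    have e2 : pp t = ac (kk s) (pp (s⁻¹ * t)) := by rw [← ppmul, mul_inv_cancel_left]
    rw [hbn3 (dd.fr.ac_lt (kz s) hk1) h1lt (pplt _), e2]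
    nth_rw 1 [e1]
    rw [dd.fr.ac_bn (kz s) hk1 (pplt _), dd.fr.ac_bn (kz s) hk1 (pplt _)]
    revert h1 h2
    cases bn k 1 <;> cases bn k (pp s⁻¹) <;> cases bn k (pp (s⁻¹ * t)) <;> simp
  have hWfix : ∀ c, ∀ k ∈ plane P, ac (kk (c * W0 * c⁻¹)) k = k := by
    intro c k hk
    have hk' := hinvP c⁻¹ k hk
    obtain ⟨hk1, -⟩ := mem_plane.1 hk
    obtain ⟨hk2, -⟩ := mem_plane.1 hk'
    rw [kmul, kmul, dd.fr.ac_mul ((kz c).mul_left (kz W0)) (kz c⁻¹) hk1, dd.fr.ac_mul (kz c) (kz W0) hk2,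
      hacW hk2, Nat.eq_of_beq_eq_true (hfixP _ hk').1, kinv, dd.fr.ac_inv' (kz c) hk1]
  have hallfix : ∀ t, ∀ k ∈ plane P, ac (kk t) k = k := by
    intro t k hk
    obtain ⟨hk1, -⟩ := mem_plane.1 hk
    obtain ⟨c, e, rfl⟩ := a5_two_conj t
    rw [kmul, dd.fr.ac_mul (kz _) (kz _) hk1, hWfix e k hk, hWfix c k hk]
  -- preimages of the plane are centralised
  have hcomm : ∀ q ∈ Q, co q ∈ plane P → ∀ u ∈ K, Commute u q := by
    intro q hq hcq
    have hodd : ∀ t, t ^ 15 = 1 → Commute (kk t) q := by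
      intro t ht
      have hco : co (kk t * q * (kk t)⁻¹) = co q := by
        rw [dd.fr.conj _ (kz t) q hq, hallfix t _ hcq]
      rcases dd.fr.co_eq hq (dd.fr.norm _ (kz t) q hq) hco.symm with h | h
      · exact mul_inv_eq_iff_eq_mul.1 h
      · exfalso
        have hpow : ∀ m : ℕ, kk t ^ m * q * (kk t ^ m)⁻¹ = q * z ^ m := by
          intro m
          induction m with
          | zero => simp
          | succ m ih =>
            have hzk : kk t * z * (kk t)⁻¹ = z := mul_inv_eq_iff_eq_mul.2 (kz t).eq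
            calc kk t ^ (m + 1) * q * (kk t ^ (m + 1))⁻¹
                = kk t * (kk t ^ m * q * (kk t ^ m)⁻¹) * (kk t)⁻¹ := by rw [pow_succ']; group
              _ = (kk t * q * (kk t)⁻¹) * (kk t * z ^ m * (kk t)⁻¹) := by rw [ih]; group
              _ = q * z * z ^ m := by rw [h, ← conj_pow, hzk]
              _ = q * z ^ (m + 1) := by rw [pow_succ']; group
        have h15 := hpow 15
        have hk15 : kk t ^ 15 = 1 := by
          have : ∀ m : ℕ, kk t ^ m = kk (t ^ m) := fun m => by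
            induction m with
            | zero => rw [pow_zero, pow_zero, kone]
            | succ m ih => rw [pow_succ, pow_succ, kmul, ih]
          rw [this, ht, kone]
        rw [hk15, one_mul, inv_one, mul_one, show 15 = 2 * 7 + 1 from rfl, pow_succ, pow_mul, pow_two,
          dd.fr.es.sq, one_pow, one_mul] at h15
        exact dd.fr.es.ne (left_eq_mul.1 h15)
    intro u hu
    obtain ⟨t, rfl⟩ := ksurj u hu
    obtain ⟨c, hc3, hc15⟩ := a5_odd_gen t
    rw [show t = t * c * c⁻¹ by group, kmul, kinv]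
    exact (hodd _ hc15).mul_left (hodd c (by rw [show 15 = 3 * 5 from rfl, pow_mul, hc3, one_pow])).inv_left
  obtain ⟨hi1, -⟩ := mem_plane.1 hi
  obtain ⟨hj1, -⟩ := mem_plane.1 hj
  obtain ⟨f₁, hf₁, hc₁⟩ := dd.fr.co_surj i hi1
  obtain ⟨f₂, hf₂, hc₂⟩ := dd.fr.co_surj j hj1
  have sq1 : f₁ * f₁ = 1 := by rw [dd.fr.sq _ hf₁, hc₁, hqi]; rfl
  have sq2 : f₂ * f₂ = 1 := by rw [dd.fr.sq _ hf₂, hc₂, hqj]; rfl
  have i1 : f₁⁻¹ = f₁ := inv_eq_of_mul_eq_one_right sq1
  have i2 : f₂⁻¹ = f₂ := inv_eq_of_mul_eq_one_right sq2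
  have hfz : f₁ * f₂ * f₁ = f₂ * z := by
    have h := dd.fr.comm_Q hf₁ hf₂
    rw [hc₁, hc₂, hij, i1] at h
    exact h
  have h12 : f₁ * f₂ * (f₁ * f₂) = z := by
    rw [← mul_assoc, hfz, mul_assoc, (dd.fr.es.comm f₂ hf₂).symm.eq, ← mul_assoc, sq2, one_mul]
  have hfx : ∀ {q k}, q ∈ Q → co q = k → k ∈ plane P → Commute q x := by
    intro q k hq hc hk
    rw [dd.fr.commute_Q hq dd.xQ, hc, dd.cox]
    have key : ∀ a < 64, eich 16 a = a → eich 32 a = a → bn a 1 = false := by decide +kernel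
    obtain ⟨h1, -⟩ := mem_plane.1 hk
    exact key k h1 (Nat.eq_of_beq_eq_true (hfixP _ hk).1) (Nat.eq_of_beq_eq_true (hfixP _ hk).2)
  obtain ⟨d5, hd5, hd2, -, hdw⟩ := a5_d
  refine ⟨f₁, f₂, kk d5, ⟨hf₁, hf₂, sq1, sq2, h12, fun u hu => ⟨hcomm f₁ hf₁ (hc₁ ▸ hi) u hu,
    hcomm f₂ hf₂ (hc₂ ▸ hj) u hu⟩, ⟨hfx hf₁ hc₁ hi, hfx hf₂ hc₂ hj⟩, (θ.symm d5).2, ?_, ?_,
    hb1' d5 hd5, ?_⟩, ?_⟩
  · rw [← kmul, hd2, kone]
  · rw [← hW]
    show kk d5 * kk W0 * (kk d5 * kk W0) * (kk d5 * kk W0) = 1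
    rw [← kmul, ← kmul, ← kmul, hdw, kone]
  · intro u hu hux hu3 hu1
    obtain ⟨t, rfl⟩ := ksurj u hu
    have ht : t ∈ twelve := by
      by_contra hn
      have hh := hb1' t hn
      have h1 : pp t = 1 := ac_one dd (kz t) hux
      rw [h1] at hh
      exact absurd hh (by decide +kernel)
    have h3 : t * t * t = 1 := kinj (by rw [kmul, kmul, hu3, kone])
    rw [← hW]
    show kk t * kk W0 * (kk t * kk W0) * (kk t * kk W0) = 1
    rw [← kmul, ← kmul, ← kmul,
      a5_twelve_three t ht h3 (fun e => hu1 (by rw [e, kone])), kone]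
  · intro y hy hyK
    obtain ⟨m, hm, rfl⟩ := p.mem_CZ.1 hy
    have hm' := (mem_Ml.1 hm).1
    obtain ⟨hyz, hyx⟩ := phi_comm dd p.std.gens hm'
    have h1 : ac (phi gen z x m) 1 = 1 := ac_one dd hyz hyx
    have hfixpp : ∀ t, ac (phi gen z x m) (pp t) = pp t := fun t => by
      rw [hpp]
      show ac (phi gen z x m) (ac (kk t) 1) = ac (kk t) 1
      rw [← dd.fr.ac_mul hyz (kz t) h1lt, (hyK _ (θ.symm t).2).eq,
        dd.fr.ac_mul (kz t) hyz h1lt, h1]
    have ha0 : aOf m = 0 := by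
      rcases hinj (aOf m) (aOf_mem m hm') with h | h
      · exfalso
        rw [Bool.eq_false_iff] at h
        refine h ?_
        rw [List.all_eq_true]
        intro s hs
        obtain ⟨t, rfl⟩ : ∃ t, pp t = s := by
          simp only [orb4, List.mem_cons, List.not_mem_nil, or_false] at hs
          rcases hs with rfl | rfl | rfl | rfl
          · exact ⟨T0, rfl⟩
          · exact ⟨W0 * T0, by rw [ppmul, hacW hPlt]⟩
          · exact ⟨V0 * T0, by rw [ppmul, hacV hPlt]⟩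
          · refine ⟨W0 * (V0 * T0), ?_⟩
            rw [ppmul, ppmul, hacV hPlt, hacW (by rw [← hacV hPlt]; exact dd.fr.ac_lt (kz V0) hPlt)]
        rw [← phi_act dd p.std.gens hm' _ (pplt t), hfixpp t]
        exact Nat.beq_refl _
      · exact Nat.eq_of_beq_eq_true h
    have hyQ : phi gen z x m ∈ Q := dd.fr.faithful _ hyz fun k hk => by
      rw [phi_act dd p.std.gens hm' k hk, ha0, eich_zero hk]
    set y := phi gen z x m with hy'
    have hyP : co y ∈ plane P := by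
      refine mem_plane.2 ⟨dd.fr.co_lt y hyQ, fun t => ?_⟩
      have hfixy : ac (kk t) (co y) = co y := by
        rw [← dd.fr.conj _ (kz t) y hyQ, mul_inv_eq_iff_eq_mul.2 (hyK _ (θ.symm t).2).symm.eq]
      rw [hbn3 (dd.fr.co_lt y hyQ) h1lt (pplt t)]
      have hb := dd.fr.ac_bn (kz t) (dd.fr.co_lt y hyQ) h1lt
      rw [hfixy] at hb
      rw [show bn (co y) (pp t) = bn (co y) 1 from hb, Bool.xor_self]
    have hcs := hspan _ hyP
    simp only [List.mem_cons, List.not_mem_nil, or_false] at hcs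
    simp only [Set.mem_insert_iff, Set.mem_singleton_iff]
    have hg : f₂ * f₁ * f₂ = f₁ * z := by
      have h := dd.fr.comm_Q hf₂ hf₁
      rw [hc₁, hc₂, bn_comm, hij, i2] at h
      exact h
    rcases hcs with h | h | h | h
    · rcases dd.fr.co_zero y hyQ h with e | e
      · exact Or.inl e
      · exact Or.inr (Or.inl e)
    · rcases dd.fr.co_eq hf₁ hyQ (hc₁.trans h.symm) with e | e
      · exact Or.inr (Or.inr (Or.inl e))
      · exact Or.inr (Or.inr (Or.inr (Or.inr (Or.inr (Or.inr (Or.inr (e.trans hg.symm)))))))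
    · rcases dd.fr.co_eq hf₂ hyQ (hc₂.trans h.symm) with e | e
      · exact Or.inr (Or.inr (Or.inr (Or.inl e)))
      · exact Or.inr (Or.inr (Or.inr (Or.inr (Or.inr (Or.inr (Or.inl (e.trans hfz.symm)))))))
    · have hc : co (f₁ * f₂) = i ^^^ j := by rw [dd.fr.co_mul _ hf₁ _ hf₂, hc₁, hc₂]
      rcases dd.fr.co_eq (mul_mem hf₁ hf₂) hyQ (hc.trans h.symm) with e | e
      · exact Or.inr (Or.inr (Or.inr (Or.inr (Or.inl e))))
      · refine Or.inr (Or.inr (Or.inr (Or.inr (Or.inr (Or.inl (e.trans ?_))))))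
        calc f₁ * f₂ * z = f₁ * f₂ * (f₁ * f₂ * (f₁ * f₂))⁻¹ := by
              rw [h12, inv_eq_of_mul_eq_one_right dd.fr.es.sq]
          _ = f₂⁻¹ * f₁⁻¹ := by group
          _ = f₂ * f₁ := by rw [i1, i2]

end Cfsg.Agent.Lib.SuzUniq99
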