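import Cfsg.Agent.Lib.SuzUniq99.Model
import Cfsg.Agent.Lib.SuzUniq99.Orbit
import Cfsg.Agent.Lib.Linear.Simple

/-!
# Suzuki type: five generators of the complement

Owner: helper99.
-/

set_option autoImplicit false
set_option maxRecDepth 100000

namespace Cfsg.Agent.Lib.SuzUniq99

open Cfsg.Agent.Lib Cfsg.Agent.Lib.Golay.PSL34 Cfsg.Agent.Lib.SuzType52 Cfsg.Agent.Lib.SuzSeven52
open Cfsg.Agent.Lib.Involutions.Basic
open Cfsg.Agent.Lib.SuzFive11 (mem_pair)

variable {G : Type*} [Group G] [Finite G] {z : G} {Q : Subgroup G} {co : G → ℕ} {ac : G → ℕ → ℕ}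
  {x n : G} {gen : ℕ → G} {w v g q r : G} {L : Subgroup G}

/-- The chart of the complement. -/
structure LChart (z : G) (L : Subgroup G) (ν : SL34 →* G) : Prop where
  base : ν E0 = z
  range : ν.range = L
  eq_iff : ∀ s t, ν s = ν t ↔ pl s = pl t
  cent : ∀ y ∈ L, Commute y z → ∃ i < 64, ν (uu i) = y

theorem exists_chart (p : Pack z Q co ac x n gen w v g q r) (hL : Comp z w v L) :
    ∃ ν : SL34 →* G, LChart z L ν := by
  classical
  obtain ⟨e, he⟩ := hL.exists_equiv p
  obtain ⟨F, iF, iFin, hF, ⟨e'⟩⟩ := p.exists_psl'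
  obtain ⟨σ⟩ := PSL34Orders.exists_fieldEquiv F hF
  obtain ⟨e''⟩ := psl_congr σ
  let ε : ↥L ≃* Matrix.ProjectiveSpecialLinearGroup (Fin 3) F4 := e.trans (e'.trans e'')
  have hzL : z ∈ L := hL.z_mem (p.CZ_le_CV p.z_mem)
  have hzo : orderOf (ε ⟨z, hzL⟩) = 2 := by
    rw [MulEquiv.orderOf_eq, Subgroup.orderOf_mk]; exact p.std.duo.fr.ord
  let mk : SL34 →* Matrix.ProjectiveSpecialLinearGroup (Fin 3) F4 := QuotientGroup.mk' _
  have hmk : ∀ s t, mk s = mk t ↔ pl s = pl t := by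
    intro s t
    rw [pl_eq_iff, MonoidHom.eq_iff, MonoidHom.eq_iff, ker_actHom, QuotientGroup.ker_mk']
  have haL : pl E0 ≠ idL := by rw [pl_E0]; exact base_facts.2.2.2.2
  have hao : orderOf (mk E0) = 2 := by
    refine invol_iff.2 ⟨?_, ?_⟩
    · rw [← map_mul, ← map_one mk, hmk, pl_mul, pl_E0, pl_one]
      decide +kernel
    · rw [← map_one mk, ne_eq, hmk, pl_one]
      exact haL
  obtain ⟨k, hk⟩ := isConj_iff.1 (S0820.result F4.card_eq _ _ hao hzo)
  let ν : SL34 →* G := L.subtype.comp (ε.symm.toMonoidHom.comp ((MulAut.conj k).toMonoidHom.comp mk))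
  have hν : ∀ s t, ν s = ν t ↔ pl s = pl t := by
    intro s t
    rw [← hmk]
    refine ⟨fun h => ?_, fun h => ?_⟩
    · exact (MulAut.conj k).injective (ε.symm.injective (Subtype.ext h))
    · show L.subtype (ε.symm (MulAut.conj k (mk s))) = L.subtype (ε.symm (MulAut.conj k (mk t)))
      rw [h]
  have hbase : ν E0 = z := by
    show ((ε.symm (k * mk E0 * k⁻¹) : ↥L) : G) = z
    rw [hk, MulEquiv.symm_apply_apply]
  have hrange : ν.range = L := by
    refine le_antisymm (by rintro _ ⟨s, rfl⟩; exact SetLike.coe_mem _) fun y hy => ?_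
    obtain ⟨s, hs⟩ := QuotientGroup.mk'_surjective (Subgroup.center SL34) (k⁻¹ * ε ⟨y, hy⟩ * k)
    refine ⟨s, ?_⟩
    show ((ε.symm (k * mk s * k⁻¹) : ↥L) : G) = y
    rw [show mk s = k⁻¹ * ε ⟨y, hy⟩ * k from hs, show k * (k⁻¹ * ε ⟨y, hy⟩ * k) * k⁻¹ = ε ⟨y, hy⟩ by group,
      MulEquiv.symm_apply_apply]
  refine ⟨ν, hbase, hrange, hν, fun y hy hyz => ?_⟩
  -- the centraliser of `z` in the complement has at most `64` elements
  set S : Set G := {y | y ∈ L ∧ Commute y z} with hS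
  have hle : S.ncard ≤ 64 := by
    rw [← p.card_SB, ← Nat.card_coe_set_eq]
    have hmem : ∀ y : S, bar w v (y : G) ∈ SB z w v := fun y =>
      p.bar_mem_SB (mem_cent_three.2 ⟨y.2.2, mem_cent_two.1 (hL.le y.2.1)⟩)
    refine Nat.card_le_card_of_injective (fun y => (⟨bar w v (y : G), hmem y⟩ : ↥(SB z w v))) fun y y' h => ?_
    have h' := congrArg Subtype.val h
    simp only [← he ⟨(y : G), y.2.1⟩, ← he ⟨(y' : G), y'.2.1⟩] at h'
    have h'' := congrArg Subtype.val (e.injective h')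
    exact Subtype.ext h''
  let Fu : Fin 64 → G := fun i => ν (uu i)
  have hinj : Function.Injective Fu := fun i j h => by
    have h' := (hν _ _).1 h
    rw [pl_uu i.2, pl_uu j.2] at h'
    exact (by decide +kernel : ∀ i j : Fin 64, sL i = sL j → i = j) i j h'
  have hsub : Set.range Fu ⊆ S := by
    rintro _ ⟨i, rfl⟩
    refine ⟨hrange ▸ ⟨_, rfl⟩, ?_⟩
    show ν (uu i) * z = z * ν (uu i)
    rw [← hbase, ← map_mul, ← map_mul, hν, pl_mul, pl_mul, pl_uu i.2, pl_E0]
    exact (by decide +kernel : ∀ i : Fin 64, compL (sL i) aL = compL aL (sL i)) i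
  have heq : Set.range Fu = S := by
    refine Set.eq_of_subset_of_ncard_le hsub ?_ (Set.toFinite _)
    rw [Set.ncard_range_of_injective hinj, Nat.card_fin]
    exact hle
  obtain ⟨i, hi⟩ : y ∈ Set.range Fu := heq ▸ ⟨hy, hyz⟩
  exact ⟨i, i.2, hi⟩

/-- The five generators. -/
structure Five5 (z x b : G) (Q L : Subgroup G) (c f g : G) : Prop where
  rels : ∀ l ∈ relList5, evG [z, b, c, f, g] l = 1
  gen : Subgroup.closure ({z, b, c, f, g} : Set G) = L
  cx : c = x ∨ c = x * z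
  fQ : f ∈ Q ∧ g ∈ Q
  comm : ∀ u ∈ Subgroup.centralizer ({z, b} : Set G), Commute u f ∧ Commute u g

theorem exists_b (p : Pack z Q co ac x n gen w v g q r) {ν : SL34 →* G} (h : LChart z L ν) :
    ν B0 ∈ L ∧ ν B0 * ν B0 = 1 ∧ orderOf (z * ν B0) = 5 := by
  obtain ⟨h1, h2, h3, -, -⟩ := base_facts
  refine ⟨h.range ▸ ⟨_, rfl⟩, ?_, ?_⟩
  · rw [← map_mul, ← map_one ν, h.eq_iff, pl_mul, pl_one]
    exact h1
  · have : Fact (Nat.Prime 5) := ⟨by norm_num⟩
    have _ := p.std.duo
    refine orderOf_eq_prime ?_ fun e => ?_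
    · have e5 : (z * ν B0) ^ 5 = ν (evG [E0, B0] [0, 1, 0, 1, 0, 1, 0, 1, 0, 1]) := by
        rw [← h.base]
        simp only [evG, List.foldr, List.getD_cons_zero, List.getD_cons_succ, map_mul, map_one, pow_succ,
          pow_zero, one_mul, mul_one, mul_assoc]
      rw [e5, ← map_one ν, h.eq_iff, pl_evG _ _ (by decide), pl_one]
      show evL [pl E0, pl B0] _ = idL
      rw [pl_E0]
      exact h2
    · rw [← h.base, ← map_mul, ← map_one ν, h.eq_iff, pl_mul, pl_one, pl_E0] at e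
      exact h3 e

theorem exists_five (p : Pack z Q co ac x n gen w v g q r) (hL : Comp z w v L) {ν : SL34 →* G}
    (h : LChart z L ν) {f₁ f₂ d : G} (k : KFacts z x w (ν B0) Q co ac f₁ f₂ d)
    (hsmall : ∀ y ∈ CZ z w v, (∀ u ∈ Subgroup.centralizer ({z, ν B0} : Set G), Commute y u) →
      y ∈ ({1, z, f₁, f₂, f₁ * f₂, f₂ * f₁, f₁ * f₂ * f₁, f₂ * f₁ * f₂} : Set G)) :
    ∃ c f g', Five5 z x (ν B0) Q L c f g' := by
  classical
  set b := ν B0 with hb
  obtain ⟨hbL, -, -⟩ := exists_b p h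
  have dd := p.std.duo
  obtain ⟨hbw, hbv⟩ := mem_cent_two.1 (hL.le (hb ▸ hbL))
  have hwK : w ∈ Subgroup.centralizer ({z, b} : Set G) := mem_pair.2 ⟨p.wz, hbw.symm⟩
  have hvK : v ∈ Subgroup.centralizer ({z, b} : Set G) := mem_pair.2 ⟨p.v_facts.2.2.1, hbv.symm⟩
  have hzK : ∀ u ∈ Subgroup.centralizer ({z, b} : Set G), Commute u z := fun u hu => (mem_pair.1 hu).1
  have hlist : ∀ {f : G}, f ∈ Q → f * f = 1 → f ≠ 1 →
      (∀ u ∈ Subgroup.centralizer ({z, b} : Set G), Commute u f) → ∃ i < 64, ν (uu i) = f := by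
    intro f hfQ hf2 hf1 hfK
    have hfCV : f ∈ CV w v := mem_cent_two.2 ⟨(hfK w hwK).symm, (hfK v hvK).symm⟩
    have hfz : IsConj z f := dd.isConj_Q hfQ (invol_iff.2 ⟨hf2, hf1⟩)
    exact h.cent f (hL.ztype f hfCV hfz) (dd.fr.es.comm f hfQ)
  have h1ne : f₁ ≠ 1 := fun e => by
    have := k.f12
    rw [e, one_mul, k.f2] at this
    exact dd.fr.es.ne this.symm
  have h2ne : f₂ ≠ 1 := fun e => by
    have := k.f12
    rw [e, mul_one, k.f1] at this
    exact dd.fr.es.ne this.symm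
  obtain ⟨i, hi, ei⟩ := hlist k.f1Q k.f1 h1ne fun u hu => (k.fK u hu).1
  obtain ⟨j, hj, ej⟩ := hlist k.f2Q k.f2 h2ne fun u hu => (k.fK u hu).2
  set D : List SL34 := [1, E0, uu i, uu j, uu i * uu j, uu j * uu i, uu i * uu j * uu i,
    uu j * uu i * uu j] with hD
  have hdih : dih (sL i) (sL j) = D.map pl := by
    simp only [hD, dih, List.map_cons, List.map_nil, pl_mul, pl_one, pl_uu hi, pl_uu hj, pl_E0]
  have hDmap : D.map ν = [1, z, f₁, f₂, f₁ * f₂, f₂ * f₁, f₁ * f₂ * f₁, f₂ * f₁ * f₂] := by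
    simp only [hD, List.map_cons, List.map_nil, map_mul, map_one, ei, ej, h.base]
  have hfQ : ∀ s ∈ D, ν s ∈ Q ∧ ∀ u ∈ Subgroup.centralizer ({z, b} : Set G), Commute u (ν s) := by
    intro s hs
    have hm : ν s ∈ D.map ν := List.mem_map.2 ⟨s, hs, rfl⟩
    rw [hDmap] at hm
    have hq1 := k.f1Q
    have hq2 := k.f2Q
    simp only [List.mem_cons, List.not_mem_nil, or_false] at hm
    rcases hm with e | e | e | e | e | e | e | e <;> rw [e] <;> constructor
    · exact one_mem Q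
    · exact fun u _ => Commute.one_right u
    · exact dd.fr.es.mem
    · exact hzK
    · exact hq1
    · exact fun u hu => (k.fK u hu).1
    · exact hq2
    · exact fun u hu => (k.fK u hu).2
    · exact mul_mem hq1 hq2
    · exact fun u hu => (k.fK u hu).1.mul_right (k.fK u hu).2
    · exact mul_mem hq2 hq1
    · exact fun u hu => (k.fK u hu).2.mul_right (k.fK u hu).1
    · exact mul_mem (mul_mem hq1 hq2) hq1
    · exact fun u hu => ((k.fK u hu).1.mul_right (k.fK u hu).2).mul_right (k.fK u hu).1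
    · exact mul_mem (mul_mem hq2 hq1) hq2
    · exact fun u hu => ((k.fK u hu).2.mul_right (k.fK u hu).1).mul_right (k.fK u hu).2
  have hev : ∀ (e : List SL34) (l : List ℕ), (∀ a ∈ l, a < e.length) →
      evL (e.map pl) l = idL → evG (e.map ν) l = 1 := by
    intro e l hl hid
    rw [← evG_map, ← map_one ν, h.eq_iff, pl_evG e l hl, pl_one]
    exact hid
  have hpair : isPair i j = true := by
    simp only [isPair, Bool.and_eq_true, beq_iff_eq, ← pl_uu hi, ← pl_uu hj, ← pl_mul, ← pl_one, ← pl_E0,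
      ← h.eq_iff, map_mul, map_one, ei, ej, h.base]
    exact ⟨⟨k.f1, k.f2⟩, k.f12⟩
  have hnot : leaves i j = false := by
    rw [Bool.eq_false_iff]
    intro hl
    simp only [leaves, List.any_eq_true, Bool.and_eq_true, Bool.not_eq_true',
      List.contains_eq_mem, decide_eq_true_eq, decide_eq_false_iff_not, beq_iff_eq] at hl
    obtain ⟨F, hF, F', hF', -, hyS, hyD⟩ := hl
    rw [hdih] at hF hF'
    obtain ⟨sF, hsF, rfl⟩ := List.mem_map.1 hF
    obtain ⟨sF', hsF', rfl⟩ := List.mem_map.1 hF'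
    have hy : pl (evG [E0, B0, 1, sF, sF'] [1, 3, 1, 0, 1, 3, 1]) =
        evL [aL, bL, idL, pl sF, pl sF'] [1, 3, 1, 0, 1, 3, 1] := by
      rw [pl_evG _ _ (by simp)]
      show evL [pl E0, pl B0, pl 1, pl sF, pl sF'] _ = _
      rw [pl_E0, pl_one]
      rfl
    set y := evG [E0, B0, 1, sF, sF'] [1, 3, 1, 0, 1, 3, 1] with hy'
    rw [← hy] at hyS hyD
    obtain ⟨t, ht, hte⟩ : ∃ t < 64, pl y = sL t := by
      obtain ⟨t, ht⟩ := List.getElem?_of_mem hyS
      obtain ⟨ht', hte⟩ := List.getElem?_eq_some_iff.1 ht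
      exact ⟨t, (by decide +kernel : sList.length = 64) ▸ ht', by
        rw [sL, List.getD_eq_getElem?_getD, ht]; rfl⟩
    have hνy : ν y = ν (uu t) := (h.eq_iff _ _).2 (by rw [hte, pl_uu ht])
    have hyz : Commute (ν y) z := by
      rw [hνy, ← h.base]
      show ν (uu t) * ν E0 = ν E0 * ν (uu t)
      rw [← map_mul, ← map_mul, h.eq_iff, pl_mul, pl_mul, pl_uu ht, pl_E0]
      exact (by decide +kernel : ∀ i < 64, compL (sL i) aL = compL aL (sL i)) t ht
    have hyCV : ν y ∈ CV w v := hL.le (h.range ▸ ⟨_, rfl⟩)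
    have hyK : ∀ u ∈ Subgroup.centralizer ({z, b} : Set G), Commute (ν y) u := by
      intro u hu
      obtain ⟨c1, c2⟩ := mem_pair.1 hu
      have cF := ((hfQ sF hsF).2 u hu).symm
      have cb : Commute b u := c2.symm
      have cz : Commute z u := c1.symm
      have e : ν y = b * (ν sF * (b * (z * (b * (ν sF * b))))) := by
        simp only [hy', evG, List.foldr, List.getD_cons_zero, List.getD_cons_succ, map_mul, map_one, mul_one,
          ← h.base, hb]
      rw [e]
      exact cb.mul_left (cF.mul_left (cb.mul_left (cz.mul_left (cb.mul_left (cF.mul_left cb)))))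
    have hm := hsmall _ (mem_cent_three.2 ⟨hyz, mem_cent_two.1 hyCV⟩) hyK
    refine hyD ?_
    rw [hdih]
    have hm' : ν y ∈ D.map ν := by rw [hDmap]; simpa using hm
    obtain ⟨s, hs, hse⟩ := List.mem_map.1 hm'
    exact List.mem_map.2 ⟨s, hs, (h.eq_iff _ _).1 hse⟩
  have hadm : admits i j = true := by
    have := List.all_eq_true.1 (List.all_eq_true.1 pairs_cases i (List.mem_range.2 hi)) j (List.mem_range.2 hj)
    rwa [hpair, hnot, Bool.not_true, Bool.false_or, Bool.false_or] at this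
  simp only [admits, List.any_eq_true, Bool.and_eq_true, List.contains_eq_mem, decide_eq_true_eq] at hadm
  obtain ⟨pp, hpp, hF, hG⟩ := hadm
  obtain ⟨t, ht⟩ := List.getElem?_of_mem hpp
  obtain ⟨ht', hte⟩ := List.getElem?_eq_some_iff.1 ht
  have ht3 : t < 3 := goodPairs_lt.1 ▸ ht'
  obtain ⟨hl1, hl2⟩ := goodPairs_lt.2 pp hpp
  rw [hdih] at hF hG
  obtain ⟨sF, hsF, eF⟩ := List.mem_map.1 hF
  obtain ⟨sG, hsG, eG⟩ := List.mem_map.1 hG
  -- the third generator
  have hxCV : x ∈ CV w v := p.CZ_le_CV p.x_mem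
  have hxL : x ∈ L := hL.ztype x hxCV (p.ee_ztype (Or.inr (Or.inl rfl)))
  obtain ⟨ix, hix, eix⟩ := h.cent x hxL (dd.fr.es.comm x dd.xQ)
  have hixc : ix = 8 ∨ ix = 12 := by
    rcases central_cases ix hix (fun m hm => by
      rw [← pl_uu hix, ← pl_uu hm, ← pl_mul, ← pl_mul, ← h.eq_iff, map_mul, map_mul, eix]
      refine Commute.eq ((p.CZ_comm_x (mem_cent_three.2 ⟨?_, mem_cent_two.1 (hL.le (h.range ▸ ⟨_, rfl⟩))⟩)).symm)
      rw [← h.base]
      show ν (uu m) * ν E0 = ν E0 * ν (uu m)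
      rw [← map_mul, ← map_mul, h.eq_iff, pl_mul, pl_mul, pl_uu hm, pl_E0]
      exact (by decide +kernel : ∀ i < 64, compL (sL i) aL = compL aL (sL i)) m hm) with e | e | e | e
    · exfalso
      have hx1 : x = 1 := by
        rw [← eix, ← map_one ν, h.eq_iff, pl_uu hix, pl_one, e]
        exact twelve_shift.2.2.1
      have := dd.cox
      rw [hx1, dd.fr.co_one] at this
      exact zero_ne_one this
    · exfalso
      have hxz : x = z := by
        rw [← eix, ← h.base, h.eq_iff, pl_uu hix, pl_E0, e]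
        exact twelve_shift.2.2.2
      have := dd.cox
      rw [hxz, dd.fr.co_z] at this
      exact zero_ne_one this
    · exact Or.inl e
    · exact Or.inr e
  have hcx : ν (uu 12) = x ∨ ν (uu 12) = x * z := by
    rcases hixc with e | e
    · refine Or.inr ?_
      rw [← eix, ← h.base, ← map_mul, h.eq_iff, pl_mul, pl_E0, pl_uu (by norm_num), pl_uu hix, e]
      exact twelve_shift.1.symm
    · exact Or.inl (e ▸ eix)
  set e5 : List SL34 := [E0, B0, uu 12, sF, sG] with he5
  have hmap5 : e5.map pl = five t := by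
    have hgp : goodPairs.getD t (0, 0) = pp := by
      rw [List.getD_eq_getElem?_getD, ht]; rfl
    simp only [he5, List.map_cons, List.map_nil, five, hgp, pl_E0, pl_uu (show 12 < 64 by norm_num), eF, eG]
    rfl
  have hmapν : e5.map ν = [z, b, ν (uu 12), ν sF, ν sG] := by
    simp only [he5, List.map_cons, List.map_nil, h.base, hb]
  have hrel : ∀ l ∈ relList5, evG [z, b, ν (uu 12), ν sF, ν sG] l = 1 := fun l hl => by
    rw [← hmapν]
    exact hev e5 l ((by decide +kernel : ∀ l ∈ relList5, ∀ a ∈ l, a < 5) l hl)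
      (by rw [hmap5]; exact five_rels t ht3 l hl)
  refine ⟨ν (uu 12), ν sF, ν sG, hrel, ?_, hcx, ⟨(hfQ _ hsF).1, (hfQ _ hsG).1⟩,
    fun u hu => ⟨(hfQ _ hsF).2 u hu, (hfQ _ hsG).2 u hu⟩⟩
  -- generation
  set M := Subgroup.closure ({z, b, ν (uu 12), ν sF, ν sG} : Set G) with hM
  refine le_antisymm ?_ ?_
  · rw [hM, Subgroup.closure_le]
    rintro a (rfl | rfl | rfl | rfl | rfl) <;>
      first | exact hL.z_mem (p.CZ_le_CV p.z_mem) | exact h.range ▸ ⟨_, rfl⟩
  rw [← h.range, MonoidHom.range_eq_map, ← Linear.closure_transvectionSet, MonoidHom.map_closure,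
    Subgroup.closure_le]
  rintro _ ⟨_, ⟨a, a', haa, c', rfl⟩, rfl⟩
  rcases eq_or_ne c' 0 with rfl | hc0
  · simp
  have hm := mem_trList a a' haa c' hc0
  rw [← five_generate t ht3, List.mem_map] at hm
  obtain ⟨W, hW, hWe⟩ := hm
  have hW5 : ∀ m ∈ W, m < 5 := by
    refine trWords_lt _ ?_ W hW
    have htl : t < trWords.length := (by decide +kernel : trWords.length = 3) ▸ ht3
    rw [List.getD_eq_getElem?_getD, List.getElem?_eq_getElem htl]
    exact List.getElem_mem htl
  have he : ν (Matrix.SpecialLinearGroup.transvection haa c') = evG (e5.map ν) W := by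
    rw [← evG_map, h.eq_iff, pl_evG e5 W hW5, hmap5, hWe]
  show ν (Matrix.SpecialLinearGroup.transvection haa c') ∈ M
  rw [he, hmapν]
  clear he hWe hW
  induction W with
  | nil => exact one_mem M
  | cons m W ih =>
    rw [evG_cons]
    refine mul_mem ?_ (ih fun m' hm' => hW5 m' (List.mem_cons_of_mem _ hm'))
    have := hW5 m List.mem_cons_self
    interval_cases m <;> exact Subgroup.subset_closure (by simp)

end Cfsg.Agent.Lib.SuzUniq99
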