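import Cfsg.Prelude.Def_Spor_Suz
import Cfsg.Agent.Lib.CosetEnum.SuzU972.Enum
import Cfsg.Agent.Lib.CosetEnum.SuzW1.Enum
import Cfsg.Agent.Lib.ExactCover.Ker

/-!
# The Suzuki group: seven elements with all relators but one

The subgroup of the five first kinds of generators has index `972` in the group they generate with `d`,
so `(b c d c d)^5` commutes with it and has order three; it is not trivial, as the group would collapse.

Owner: helper99.
-/

set_option autoImplicit false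
set_option maxRecDepth 100000

namespace Cfsg.Agent.Lib.SuzUniq99

open Cfsg.Agent.Lib.CosetEnum Cfsg.Agent.Lib.ExactCover

variable {G : Type*} [Group G]

/-- The value of a word in involutory letters. -/
def evW {n : ℕ} [NeZero n] (φ : Fin n → G) (l : List ℕ) : G :=
  (l.map fun g => φ (Fin.ofNat n (g / 2))).prod

/-- All letters are positive. -/
def evens (n : ℕ) (l : List ℕ) : Bool := l.all fun g => g % 2 == 0 && decide (g < 2 * n)

theorem lift_evW {n : ℕ} [NeZero n] (φ : Fin n → G) {l : List ℕ} (hl : evens n l = true) :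
    FreeGroup.lift φ (word n l) = evW φ l := by
  induction l with
  | nil => rw [word_nil, map_one]; rfl
  | cons g l ih =>
    simp only [evens, List.all_cons, Bool.and_eq_true, beq_iff_eq, decide_eq_true_eq] at hl
    have hg : g = 2 * (Fin.ofNat n (g / 2)).val := by
      rw [Fin.val_ofNat, Nat.mod_eq_of_lt (by omega)]
      omega
    rw [word_cons, map_mul, ih (by simp only [evens]; exact hl.2)]
    conv_lhs => rw [hg, lift_word_pos]
    simp [evW]

theorem exists_hom {n : ℕ} [NeZero n] (φ : Fin n → G) {R : List (List ℕ)}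
    (hev : ∀ l ∈ R, evens n l = true) (hR : ∀ l ∈ R, evW φ l = 1) :
    ∃ F : PresentedGroup (relSet n R) →* G, (∀ l, evens n l = true → F (el R l) = evW φ l) ∧
      ∀ i, F (PresentedGroup.of i) = φ i := by
  have h : ∀ x ∈ relSet n R, FreeGroup.lift φ x = 1 := by
    intro x hx
    obtain ⟨l, hl, rfl⟩ := List.mem_map.1 hx
    show FreeGroup.lift φ (word n l) = 1
    rw [lift_evW φ (hev l hl), hR l hl]
  exact ⟨PresentedGroup.toGroup h, fun l hl => lift_evW φ hl, fun i => PresentedGroup.toGroup.of h⟩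

/-- The relations of the seven elements. -/
structure Seven (a b c d e f g : G) : Prop where
  a2 : a * a = 1
  b2 : b * b = 1
  c2 : c * c = 1
  d2 : d * d = 1
  e2 : e * e = 1
  f2 : f * f = 1
  g2 : g * g = 1
  ab : (a * b) ^ 5 = 1
  bc : (b * c) ^ 3 = 1
  cd : (c * d) ^ 4 = a
  de : (d * e) ^ 3 = 1
  bf : (b * f) ^ 3 = 1
  bg : (b * g) ^ 3 = 1
  fg : (f * g) ^ 2 = a
  ac : Commute a c
  ad : Commute a d
  ae : Commute a e
  af : Commute a f
  ag : Commute a g
  bd : Commute b d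
  be : Commute b e
  ce : Commute c e
  cf : Commute c f
  cg : Commute c g
  df : Commute d f
  dg : Commute d g
  ef : Commute e f
  eg : Commute e g
  abcf : (a * b * c * f) ^ 5 = 1
  bfg : (b * f * g) ^ 5 = 1
  abc : (a * b * c) ^ 5 = 1

theorem sq_mul {u v : G} (hu : u * u = 1) (hv : v * v = 1) (h : Commute u v) : u * v * (u * v) = 1 := by
  rw [h.eq, mul_assoc, ← mul_assoc u v u, h.eq, mul_assoc v u u, hu, mul_one, hv]

namespace Seven

variable {a b c d e f g : G} (h : Seven a b c d e f g)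
include h

theorem dc : d * c * d * c * d * c * d * c * a = 1 := by
  have h1 : (d * c) ^ 4 = a := by
    have : d * c = d * (c * d) * d⁻¹ := by group
    rw [this, conj_pow, h.cd, mul_inv_eq_iff_eq_mul]
    exact h.ad.symm.eq
  calc d * c * d * c * d * c * d * c * a = (d * c) ^ 4 * a := by
        simp only [pow_succ, pow_zero, one_mul, mul_assoc]
    _ = 1 := by rw [h1, h.a2]

theorem cd8 : (c * d) ^ 8 = 1 := by rw [show 8 = 4 * 2 from rfl, pow_mul, h.cd, pow_two, h.a2]

theorem fg4 : (f * g) ^ 4 = 1 := by rw [show 4 = 2 * 2 from rfl, pow_mul, h.fg, pow_two, h.a2]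

theorem afgfg : a * f * g * f * g = 1 := by
  calc a * f * g * f * g = a * (f * g) ^ 2 := by simp only [pow_succ, pow_zero, one_mul, mul_assoc]
    _ = 1 := by rw [h.fg, h.a2]

theorem relsU : ∀ l ∈ SuzU972.relWords, evW ![a, b, c, d, f, g] l = 1 := by
  intro l hl
  simp only [SuzU972.relWords, List.mem_cons, List.not_mem_nil, or_false] at hl
  rcases hl with rfl | rfl | rfl | rfl | rfl | rfl | rfl | rfl | rfl | rfl | rfl | rfl | rfl | rfl | rfl |
    rfl | rfl | rfl | rfl | rfl | rfl | rfl | rfl | rfl | rfl | rfl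
  case _ => simpa [evW, -Fin.ofNat_eq_cast, Fin.ofNat] using h.a2
  case _ => simpa [evW, -Fin.ofNat_eq_cast, Fin.ofNat] using h.b2
  case _ => simpa [evW, -Fin.ofNat_eq_cast, Fin.ofNat] using h.c2
  case _ => simpa [evW, -Fin.ofNat_eq_cast, Fin.ofNat] using h.d2
  case _ => simpa [evW, -Fin.ofNat_eq_cast, Fin.ofNat] using h.f2
  case _ => simpa [evW, -Fin.ofNat_eq_cast, Fin.ofNat] using h.g2
  case _ => simpa [evW, -Fin.ofNat_eq_cast, Fin.ofNat, pow_succ, mul_assoc] using h.ab
  case _ => simpa [evW, -Fin.ofNat_eq_cast, Fin.ofNat, mul_assoc] using sq_mul h.a2 h.c2 h.ac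
  case _ => simpa [evW, -Fin.ofNat_eq_cast, Fin.ofNat, mul_assoc] using sq_mul h.a2 h.d2 h.ad
  case _ => simpa [evW, -Fin.ofNat_eq_cast, Fin.ofNat, mul_assoc] using sq_mul h.a2 h.f2 h.af
  case _ => simpa [evW, -Fin.ofNat_eq_cast, Fin.ofNat, mul_assoc] using sq_mul h.a2 h.g2 h.ag
  case _ => simpa [evW, -Fin.ofNat_eq_cast, Fin.ofNat, pow_succ, mul_assoc] using h.bc
  case _ => simpa [evW, -Fin.ofNat_eq_cast, Fin.ofNat, mul_assoc] using sq_mul h.b2 h.d2 h.bd
  case _ => simpa [evW, -Fin.ofNat_eq_cast, Fin.ofNat, pow_succ, mul_assoc] using h.bf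
  case _ => simpa [evW, -Fin.ofNat_eq_cast, Fin.ofNat, pow_succ, mul_assoc] using h.bg
  case _ => simpa [evW, -Fin.ofNat_eq_cast, Fin.ofNat, pow_succ, mul_assoc] using h.cd8
  case _ => simpa [evW, -Fin.ofNat_eq_cast, Fin.ofNat, mul_assoc] using sq_mul h.c2 h.f2 h.cf
  case _ => simpa [evW, -Fin.ofNat_eq_cast, Fin.ofNat, mul_assoc] using sq_mul h.c2 h.g2 h.cg
  case _ => simpa [evW, -Fin.ofNat_eq_cast, Fin.ofNat, mul_assoc] using sq_mul h.d2 h.f2 h.df
  case _ => simpa [evW, -Fin.ofNat_eq_cast, Fin.ofNat, mul_assoc] using sq_mul h.d2 h.g2 h.dg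
  case _ => simpa [evW, -Fin.ofNat_eq_cast, Fin.ofNat, pow_succ, mul_assoc] using h.fg4
  case _ => simpa [evW, -Fin.ofNat_eq_cast, Fin.ofNat, mul_assoc] using h.dc
  case _ => simpa [evW, -Fin.ofNat_eq_cast, Fin.ofNat, mul_assoc] using h.afgfg
  case _ => simpa [evW, -Fin.ofNat_eq_cast, Fin.ofNat, pow_succ, mul_assoc] using h.abcf
  case _ => simpa [evW, -Fin.ofNat_eq_cast, Fin.ofNat, pow_succ, mul_assoc] using h.bfg
  case _ => simpa [evW, -Fin.ofNat_eq_cast, Fin.ofNat, pow_succ, mul_assoc] using h.abc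

/-- The collapse: `(b c d c d)^5` is not trivial. -/
theorem w_ne (hb : ∀ y ∈ Subgroup.closure ({d, e} : Set G), y ≠ b) : (b * c * d * c * d) ^ 5 ≠ 1 := by
  intro hw
  have hR : ∀ l ∈ SuzW1.relWords, evW ![a, b, c, d, e] l = 1 := by
    intro l hl
    simp only [SuzW1.relWords, List.mem_cons, List.not_mem_nil, or_false] at hl
    rcases hl with rfl | rfl | rfl | rfl | rfl | rfl | rfl | rfl | rfl | rfl | rfl | rfl | rfl | rfl | rfl |
      rfl | rfl | rfl
    case _ => simpa [evW, -Fin.ofNat_eq_cast, Fin.ofNat] using h.a2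
    case _ => simpa [evW, -Fin.ofNat_eq_cast, Fin.ofNat] using h.b2
    case _ => simpa [evW, -Fin.ofNat_eq_cast, Fin.ofNat] using h.c2
    case _ => simpa [evW, -Fin.ofNat_eq_cast, Fin.ofNat] using h.d2
    case _ => simpa [evW, -Fin.ofNat_eq_cast, Fin.ofNat] using h.e2
    case _ => simpa [evW, -Fin.ofNat_eq_cast, Fin.ofNat, pow_succ, mul_assoc] using h.ab
    case _ => simpa [evW, -Fin.ofNat_eq_cast, Fin.ofNat, mul_assoc] using sq_mul h.a2 h.c2 h.ac
    case _ => simpa [evW, -Fin.ofNat_eq_cast, Fin.ofNat, mul_assoc] using sq_mul h.a2 h.d2 h.ad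
    case _ => simpa [evW, -Fin.ofNat_eq_cast, Fin.ofNat, mul_assoc] using sq_mul h.a2 h.e2 h.ae
    case _ => simpa [evW, -Fin.ofNat_eq_cast, Fin.ofNat, pow_succ, mul_assoc] using h.bc
    case _ => simpa [evW, -Fin.ofNat_eq_cast, Fin.ofNat, mul_assoc] using sq_mul h.b2 h.d2 h.bd
    case _ => simpa [evW, -Fin.ofNat_eq_cast, Fin.ofNat, mul_assoc] using sq_mul h.b2 h.e2 h.be
    case _ => simpa [evW, -Fin.ofNat_eq_cast, Fin.ofNat, pow_succ, mul_assoc] using h.cd8
    case _ => simpa [evW, -Fin.ofNat_eq_cast, Fin.ofNat, mul_assoc] using sq_mul h.c2 h.e2 h.ce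
    case _ => simpa [evW, -Fin.ofNat_eq_cast, Fin.ofNat, pow_succ, mul_assoc] using h.de
    case _ => simpa [evW, -Fin.ofNat_eq_cast, Fin.ofNat, mul_assoc] using h.dc
    case _ => simpa [evW, -Fin.ofNat_eq_cast, Fin.ofNat, pow_succ, mul_assoc] using h.abc
    case _ => simpa [evW, -Fin.ofNat_eq_cast, Fin.ofNat, pow_succ, mul_assoc] using hw
  obtain ⟨F, hF, -⟩ := exists_hom ![a, b, c, d, e] (by decide +kernel) hR
  have htop := Subgroup.index_eq_one.1 SuzW1.enum.index
  have hsub : subOf SuzW1.letters SuzW1.pres SuzW1.subWords =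
      Subgroup.closure {x | ∃ l ∈ SuzW1.subWords, el SuzW1.relWords l = x} :=
    subOf_eq (by decide +kernel)
  rw [hsub] at htop
  have hle : (Subgroup.closure {x | ∃ l ∈ SuzW1.subWords, el (n := 5) SuzW1.relWords l = x}).map F ≤
      Subgroup.closure ({d, e} : Set G) := by
    rw [MonoidHom.map_closure, Subgroup.closure_le]
    rintro _ ⟨_, ⟨l, hl, rfl⟩, rfl⟩
    simp only [SuzW1.subWords, List.mem_cons, List.not_mem_nil, or_false] at hl
    rcases hl with rfl | rfl <;>
      · rw [hF _ (by decide)]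
        exact Subgroup.subset_closure (by simp [evW, -Fin.ofNat_eq_cast, Fin.ofNat])
  have hm : F (el SuzW1.relWords [2]) ∈ Subgroup.closure ({d, e} : Set G) :=
    hle ⟨_, htop ▸ Subgroup.mem_top _, rfl⟩
  refine hb _ hm ?_
  rw [hF _ (by decide)]
  simp [evW, -Fin.ofNat_eq_cast, Fin.ofNat]

/-- The word of `(b c d c d)^5`. -/
def wW : List ℕ := [2, 4, 6, 4, 6, 2, 4, 6, 4, 6, 2, 4, 6, 4, 6, 2, 4, 6, 4, 6, 2, 4, 6, 4, 6]

/-- The words that have to act trivially. -/
def killW : List (List ℕ) :=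
  (wW ++ wW ++ wW) :: [0, 2, 4, 8, 10].map fun i => wW ++ [i] ++ wW.reverse ++ [i]

omit h in
theorem kill_scan : killW.all (fun l => evens 6 l && allBelow 972 fun i =>
    Nat.beq (scan 12 SuzU972.table l i) i) = true := by
  decide +kernel

/-- `(b c d c d)^5` centralises the five generators and has order dividing three. -/
theorem w_props {L : Subgroup G} (hsimple : IsSimpleGroup L)
    (hgen : Subgroup.closure ({a, b, c, f, g} : Set G) = L) (hd : d * c * d⁻¹ ∉ L) :
    ((b * c * d * c * d) ^ 5) ^ 3 = 1 ∧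
      ∀ y ∈ L, Commute ((b * c * d * c * d) ^ 5) y := by
  obtain ⟨F, hF, -⟩ := exists_hom ![a, b, c, d, f, g] (by decide +kernel) h.relsU
  obtain ⟨ρ, hρ, hfix, -⟩ := SuzU972.enum.action
  let A : Act 6 SuzU972.relWords 972 SuzU972.table := ⟨SuzU972.enum.pos, ρ, fun g hg i => by
    have h := hρ g hg i
    rwa [Letters.phi_of_lt (show g < SuzU972.letters.K from hg)] at h⟩
  have hsub : subOf SuzU972.letters SuzU972.pres SuzU972.subWords =
      Subgroup.closure {x | ∃ l ∈ SuzU972.subWords, el SuzU972.relWords l = x} :=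
    subOf_eq (by decide +kernel)
  have hle : (subOf SuzU972.letters SuzU972.pres SuzU972.subWords).map F ≤ L := by
    rw [hsub, MonoidHom.map_closure, Subgroup.closure_le]
    rintro _ ⟨_, ⟨l, hl, rfl⟩, rfl⟩
    simp only [SuzU972.subWords, List.mem_cons, List.not_mem_nil, or_false] at hl
    rw [← hgen]
    rcases hl with rfl | rfl | rfl | rfl | rfl <;>
      · rw [hF _ (by decide)]
        exact Subgroup.subset_closure (by simp [evW, -Fin.ofNat_eq_cast, Fin.ofNat])
  -- the kernel of the action maps to a normal subgroup of the simple group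
  set N := (ρ.ker).map F with hN
  have hNL : N ≤ L := by
    rintro _ ⟨y, hy, rfl⟩
    refine hle ⟨y, (hfix y).2 ?_, rfl⟩
    rw [MonoidHom.mem_ker.1 hy]
    rfl
  have hNn : ∀ m ∈ N, ∀ u ∈ F.range, u * m * u⁻¹ ∈ N := by
    rintro _ ⟨y, hy, rfl⟩ _ ⟨u, rfl⟩
    exact ⟨u * y * u⁻¹, (MonoidHom.normal_ker ρ).conj_mem y hy u, by simp⟩
  have hmem : ∀ i : Fin 6, ![a, b, c, d, f, g] i ∈ F.range := fun i => by
    refine ⟨el SuzU972.relWords [2 * i.val], ?_⟩
    rw [hF _ (by revert i; decide)]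
    simp [evW]
  have hLr : L ≤ F.range := by
    rw [← hgen, Subgroup.closure_le]
    rintro y (rfl | rfl | rfl | rfl | rfl)
    exacts [hmem 0, hmem 1, hmem 2, hmem 4, hmem 5]
  have hNbot : N = ⊥ := by
    haveI : (N.subgroupOf L).Normal := ⟨fun m hm u => hNn _ hm _ (hLr u.2)⟩
    rcases hsimple.eq_bot_or_eq_top_of_normal (N.subgroupOf L) inferInstance with e | e
    · rw [Subgroup.subgroupOf_eq_bot, disjoint_iff, inf_eq_left.2 hNL] at e
      exact e
    · exfalso
      refine hd (hNL (hNn c ?_ d (hmem 3)))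
      have : (⟨c, hgen ▸ Subgroup.subset_closure (by simp)⟩ : L) ∈ N.subgroupOf L := e ▸ Subgroup.mem_top _
      exact this
  have hkill : ∀ l ∈ killW, evW ![a, b, c, d, f, g] l = 1 := by
    intro l hl
    have hs := List.all_eq_true.1 kill_scan l hl
    rw [Bool.and_eq_true] at hs
    have hlt : ∀ x ∈ l, x < 2 * 6 := fun x hx => by
      have := List.all_eq_true.1 hs.1 x hx
      simp only [Bool.and_eq_true, decide_eq_true_eq] at this
      exact this.2
    have hker : el SuzU972.relWords l ∈ ρ.ker := by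
      refine MonoidHom.mem_ker.2 (inv_eq_one.1 (Equiv.ext fun i => Fin.ext ?_))
      have e := A.scan_eq l hlt i
      show ((ρ (el SuzU972.relWords l))⁻¹ i).1 = i.1
      rw [e]
      exact Nat.eq_of_beq_eq_true (allBelow_iff.1 hs.2 i.1 i.2)
    have : F (el SuzU972.relWords l) ∈ N := ⟨_, hker, rfl⟩
    rw [hNbot, Subgroup.mem_bot, hF _ hs.1] at this
    exact this
  set φ : Fin 6 → G := ![a, b, c, d, f, g] with hφ
  have happ : ∀ l l' : List ℕ, evW φ (l ++ l') = evW φ l * evW φ l' := fun l l' => by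
    simp [evW]
  have hrev : ∀ l : List ℕ, evW φ l.reverse = (evW φ l)⁻¹ := by
    intro l
    induction l with
    | nil => simp [evW]
    | cons x l ih =>
      have hx2 : φ (Fin.ofNat 6 (x / 2)) * φ (Fin.ofNat 6 (x / 2)) = 1 := by
        generalize Fin.ofNat 6 (x / 2) = i
        fin_cases i
        exacts [h.a2, h.b2, h.c2, h.d2, h.f2, h.g2]
      rw [List.reverse_cons, happ, ih]
      simp only [evW, List.map_cons, List.map_nil, List.prod_cons, List.prod_nil, mul_one, mul_inv_rev,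
        inv_eq_of_mul_eq_one_right hx2]
  have hwW : evW φ wW = (b * c * d * c * d) ^ 5 := by
    simp [evW, wW, hφ, -Fin.ofNat_eq_cast, Fin.ofNat, pow_succ, mul_assoc]
  rw [← hwW]
  refine ⟨?_, ?_⟩
  · have := hkill (wW ++ wW ++ wW) (by simp [killW])
    rw [happ, happ] at this
    rw [pow_three, ← mul_assoc]
    exact this
  · have hcomm : ∀ i ∈ [0, 2, 4, 8, 10], Commute (evW φ wW) (evW φ [i]) := by
      intro i hi
      have := hkill (wW ++ [i] ++ wW.reverse ++ [i]) (List.mem_cons_of_mem _ (List.mem_map.2 ⟨i, hi, rfl⟩))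
      rw [happ, happ, happ, hrev] at this
      have h2 : evW φ [i] * evW φ [i] = 1 := by
        have := hrev [i]
        rw [List.reverse_singleton] at this
        exact eq_inv_iff_mul_eq_one.1 this
      exact mul_inv_eq_iff_eq_mul.1 ((eq_inv_of_mul_eq_one_left this).trans (inv_eq_of_mul_eq_one_right h2))
    intro y hy
    rw [← hgen] at hy
    induction hy using Subgroup.closure_induction with
    | mem y hy =>
      rcases hy with rfl | rfl | rfl | rfl | rfl
      · simpa [evW, hφ, -Fin.ofNat_eq_cast, Fin.ofNat] using hcomm 0 (by simp)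
      · simpa [evW, hφ, -Fin.ofNat_eq_cast, Fin.ofNat] using hcomm 2 (by simp)
      · simpa [evW, hφ, -Fin.ofNat_eq_cast, Fin.ofNat] using hcomm 4 (by simp)
      · simpa [evW, hφ, -Fin.ofNat_eq_cast, Fin.ofNat] using hcomm 8 (by simp)
      · simpa [evW, hφ, -Fin.ofNat_eq_cast, Fin.ofNat] using hcomm 10 (by simp)
    | one => exact Commute.one_right _
    | mul u v _ _ hu hv => exact hu.mul_right hv
    | inv u _ hu => exact hu.inv_right

/-- The homomorphism from the presented group. -/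
theorem exists_suz_hom (hW : ((b * c * d * c * d) ^ 5 * e) ^ 3 = 1) :
    ∃ ψ : Cfsg.Spor.Suz →* G, ψ (PresentedGroup.of Cfsg.Spor.Suz.Gen.a) = a := by
  let φ : Cfsg.Spor.Suz.Gen → G := fun x =>
    match x with
    | .a => a | .b => b | .c => c | .d => d | .e => e | .f => f | .g => g
  have hf := h.af
  have key : ∀ r ∈ Cfsg.Spor.coxRelators Cfsg.Spor.Suz.edges ∪ {r | r ∈ Cfsg.Spor.Suz.extra},
      FreeGroup.lift φ r = 1 := by
    rintro r (⟨x, -, y, -, rfl⟩ | hr)
    · have hsym : ∀ {u v : G} {k : ℕ}, (u * v) ^ k = 1 → (v * u) ^ k = 1 := fun {u v k} e => by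
        rw [show v * u = u⁻¹ * (u * v) * u⁻¹⁻¹ by group, conj_pow, e]
        group
      have h8 := h.cd8
      have h4 := h.fg4
      cases x <;> cases y <;>
        simp only [Cfsg.Spor.coxLabel, Cfsg.Spor.Suz.edges, map_pow, map_mul, FreeGroup.lift_apply_of, φ] <;>
        simp [pow_two, h.a2, h.b2, h.c2, h.d2, h.e2, h.f2, h.g2, h.ab, hsym h.ab, h.bc, hsym h.bc, h8,
          hsym h8, h.de, hsym h.de, h.bf, hsym h.bf, h4, hsym h4, h.bg, hsym h.bg,
          sq_mul h.a2 h.c2 h.ac, sq_mul h.c2 h.a2 h.ac.symm, sq_mul h.a2 h.d2 h.ad,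
          sq_mul h.d2 h.a2 h.ad.symm, sq_mul h.a2 h.e2 h.ae, sq_mul h.e2 h.a2 h.ae.symm,
          sq_mul h.a2 h.f2 h.af, sq_mul h.f2 h.a2 h.af.symm, sq_mul h.a2 h.g2 h.ag,
          sq_mul h.g2 h.a2 h.ag.symm, sq_mul h.b2 h.d2 h.bd, sq_mul h.d2 h.b2 h.bd.symm,
          sq_mul h.b2 h.e2 h.be, sq_mul h.e2 h.b2 h.be.symm, sq_mul h.c2 h.e2 h.ce,
          sq_mul h.e2 h.c2 h.ce.symm, sq_mul h.c2 h.f2 h.cf, sq_mul h.f2 h.c2 h.cf.symm,
          sq_mul h.c2 h.g2 h.cg, sq_mul h.g2 h.c2 h.cg.symm, sq_mul h.d2 h.f2 h.df,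
          sq_mul h.f2 h.d2 h.df.symm, sq_mul h.d2 h.g2 h.dg, sq_mul h.g2 h.d2 h.dg.symm,
          sq_mul h.e2 h.f2 h.ef, sq_mul h.f2 h.e2 h.ef.symm, sq_mul h.e2 h.g2 h.eg,
          sq_mul h.g2 h.e2 h.eg.symm]
    · simp only [Cfsg.Spor.Suz.extra, Set.mem_setOf_eq, List.mem_cons, List.not_mem_nil, or_false] at hr
      rcases hr with rfl | rfl | rfl | rfl | rfl <;>
        simp only [map_mul, map_pow, map_inv, FreeGroup.lift_apply_of, φ]
      · rw [h.cd, mul_inv_cancel]
      · rw [h.fg, mul_inv_cancel]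
      · exact h.abcf
      · exact h.bfg
      · exact hW
  exact ⟨PresentedGroup.toGroup key, PresentedGroup.toGroup.of key⟩

end Seven

end Cfsg.Agent.Lib.SuzUniq99
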