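import Cfsg.Agent.Lib.SuzFive11.Cent
import Cfsg.Agent.Lib.SuzSeven52.Five
import Cfsg.Agent.Lib.SuzUniq99.Comp

/-!
# Suzuki type: the centraliser of a dihedral group of order ten is `A₅`

The quotient `C(c)/⟨c⟩` of an element of order five centralising the four-group is `A₅`, and an
involution inverting `c` in the complement centralises a complement of `⟨c⟩`.

Owner: helper99 (the recognition lemma follows helper11's `SuzFive11.of_four`).
-/

set_option autoImplicit false
set_option maxRecDepth 100000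
set_option synthInstance.maxSize 4000
set_option synthInstance.maxHeartbeats 200000

namespace Cfsg.Agent.Lib.SuzUniq99

open Cfsg.Agent.Lib.Involutions.Basic Cfsg.Agent.Lib.SuzType52 Cfsg.Agent.Lib.SuzFive11
open Cfsg.Agent.Lib.SuzSeven52

section Recognition

variable {Y : Type*} [Group Y] [Finite Y]

/-- All involutions centralised by exactly a four-group, and the order divisible by five: `A₅`. -/
theorem equiv_alt_of_four (t : Y) (ht : orderOf t = 2)
    (h4 : ∀ u : Y, orderOf u = 2 → Nat.card (Subgroup.centralizer ({u} : Set Y)) = 4)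
    (hsq : ∀ u : Y, orderOf u = 2 → ∀ c ∈ Subgroup.centralizer ({u} : Set Y), c * c = 1)
    (h5 : 5 ∣ Nat.card Y) : Nonempty (Y ≃* alternatingGroup (Fin 5)) := by
  have : Fact (Nat.Prime 2) := ⟨Nat.prime_two⟩
  set C := Subgroup.centralizer ({t} : Set Y) with hCdef
  have hp : ∀ u : Y, orderOf u = 2 → IsPGroup 2 ↥(Subgroup.centralizer ({u} : Set Y)) := fun u hu =>
    IsPGroup.of_card (n := 2) (by rw [h4 u hu]; norm_num)
  obtain ⟨P, hP⟩ := (hp t ht).exists_le_sylow
  have htC : t ∈ C := Subgroup.mem_centralizer_singleton_iff.2 rfl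
  have hnil : Group.IsNilpotent ↥(P : Subgroup Y) := P.2.isNilpotent
  -- a central involution of the Sylow subgroup has the same centraliser
  obtain ⟨w, hwc, hw⟩ : ∃ w : ↥(P : Subgroup Y), w ∈ Subgroup.center ↥(P : Subgroup Y) ∧ orderOf w = 2 := by
    have : Nontrivial ↥(P : Subgroup Y) := ⟨⟨⟨t, hP htC⟩, 1, fun e => invol_ne_one ht (congrArg Subtype.val e)⟩⟩
    have := P.2.center_nontrivial
    obtain ⟨w, hw⟩ := exists_prime_orderOf_dvd_card' (G := Subgroup.center ↥(P : Subgroup Y)) 2 (by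
      obtain ⟨i, hi⟩ := (P.2.to_subgroup (Subgroup.center _)).exists_card_eq
      have h1 : 1 < Nat.card (Subgroup.center ↥(P : Subgroup Y)) := Finite.one_lt_card
      rw [hi] at h1 ⊢
      rcases i with _ | i
      · norm_num at h1
      · exact dvd_pow_self 2 (Nat.succ_ne_zero i))
    exact ⟨w, w.2, by rw [Subgroup.orderOf_coe, hw]⟩
  have hPle : (P : Subgroup Y) ≤ Subgroup.centralizer ({(w : Y)} : Set Y) := fun a ha =>
    Subgroup.mem_centralizer_singleton_iff.2 (congrArg Subtype.val (Subgroup.mem_center_iff.1 hwc ⟨a, ha⟩))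
  have hw' : orderOf (w : Y) = 2 := by rw [Subgroup.orderOf_coe, hw]
  have hPC : (P : Subgroup Y) = C := (Subgroup.eq_of_le_of_card_ge hP (by
    rw [h4 t ht, ← h4 _ hw']
    exact Subgroup.card_le_of_le hPle)).symm
  have hK : IsKleinFour (P : Subgroup Y) := by
    rw [hPC]
    refine { card_four := h4 t ht, exponent_two := ?_ }
    have : Nontrivial C := ⟨⟨⟨t, htC⟩, 1, fun e => invol_ne_one ht (congrArg Subtype.val e)⟩⟩
    refine (Monoid.exponent_eq_prime_iff Nat.prime_two).2 fun g hg => ?_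
    exact orderOf_eq_prime (by rw [pow_two]; exact Subtype.ext (hsq t ht _ g.2)) hg
  obtain ⟨s, hsC, hs1, hst⟩ : ∃ s ∈ C, s ≠ 1 ∧ s ≠ t := by
    by_contra hcon
    push_neg at hcon
    have hle : ∀ a : C, a = 1 ∨ a = ⟨t, htC⟩ := fun a =>
      (eq_or_ne (a : Y) 1).imp (fun e => Subtype.ext e) fun e => Subtype.ext (hcon _ a.2 e)
    have : Nat.card C ≤ 2 := by
      classical
      have := Fintype.ofFinite C
      rw [Nat.card_eq_fintype_card, ← Finset.card_univ]
      exact le_trans (Finset.card_le_card (t := {1, ⟨t, htC⟩}) fun a _ => by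
        rcases hle a with rfl | rfl <;> simp) Finset.card_le_two
    rw [hCdef, h4 t ht] at this
    norm_num at this
  have hs2 : s * s = 1 := hsq t ht s hsC
  have hcom : Commute t s := (Subgroup.mem_centralizer_singleton_iff.1 hsC).symm
  have hu : ∀ u ∈ [t, s, t * s], orderOf u = 2 := by
    intro u hu
    simp only [List.mem_cons, List.not_mem_nil, or_false] at hu
    rcases hu with rfl | rfl | rfl
    · exact ht
    · exact invol_iff.2 ⟨hs2, hs1⟩
    · refine invol_iff.2 ⟨hsq t ht _ (mul_mem htC hsC), fun e => hst ?_⟩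
      rw [eq_inv_of_mul_eq_one_right e, inv_eq_of_mul_eq_one_right (invol_mul_self ht)]
  have hO := odd_normal_bot (invol_mul_self ht) hs2 hcom fun u h => hp u (hu u h)
  rcases Cfsg.Agent.Lib.DihedralCentralizer.Klein.cases P hK ht hPC.symm hO with h | h | ⟨⟨e⟩⟩
  · exfalso
    obtain ⟨Q, L, hL, hLc⟩ := h
    have hLodd : Odd (Nat.card L) := by
      rw [Nat.odd_iff, ← Nat.two_dvd_ne_zero, ← hLc.index_eq_card]
      exact Q.not_dvd_index
    have hbot := hO L hL hLodd
    have hY : Nat.card Y = 4 := by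
      rw [← hLc.card_mul, hbot, Subgroup.card_bot, one_mul,
        Nat.card_congr (Sylow.equiv Q P).toEquiv, hPC, hCdef, h4 t ht]
    rw [hY] at h5
    norm_num at h5
  · exfalso
    have hconj : ∀ g : Y, ∀ a ∈ C, g * a * g⁻¹ ∈ C := fun g a ha => by
      rw [← hPC] at ha ⊢
      exact h.conj_mem a ha g
    -- an element of order five fixes the three involutions
    have : Fact (Nat.Prime 5) := ⟨by norm_num⟩
    obtain ⟨g, hg⟩ := exists_prime_orderOf_dvd_card' (G := Y) 5 h5
    let T := {a : C // a ≠ 1}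
    let σ : T → T := fun a => ⟨⟨g * a.1 * g⁻¹, hconj g _ a.1.2⟩,
      fun e => a.2 (Subtype.ext (conj_eq_one_iff.1 (congrArg Subtype.val e)))⟩
    have hT : Nat.card T = 3 := by
      classical
      have := Fintype.ofFinite C
      rw [Nat.card_eq_fintype_card, Fintype.card_subtype, Finset.filter_ne', Finset.card_erase_of_mem
        (Finset.mem_univ _), Finset.card_univ, ← Nat.card_eq_fintype_card, hCdef, h4 t ht]
    let τ : T := ⟨⟨t, htC⟩, fun e => invol_ne_one ht (congrArg Subtype.val e)⟩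
    have hiter : ∀ m : ℕ, ((σ^[m] τ).1 : Y) = g ^ m * t * (g ^ m)⁻¹ := by
      intro m
      induction m with
      | zero => simp [τ]
      | succ m ih =>
        rw [Function.iterate_succ_apply']
        show g * ((σ^[m] τ).1 : Y) * g⁻¹ = _
        rw [ih, pow_succ']; group
    have hper : Function.IsPeriodicPt σ 5 τ := by
      refine Subtype.ext (Subtype.ext ?_)
      rw [hiter, ← hg, pow_orderOf_eq_one, one_mul, inv_one, mul_one]
    have hd := hper.minimalPeriod_dvd
    have hfix : σ τ = τ := by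
      rcases (Nat.dvd_prime (by norm_num : Nat.Prime 5)).1 hd with e | e
      · exact Function.minimalPeriod_eq_one_iff_isFixedPt.1 e
      · exfalso
        classical
        have := Fintype.ofFinite T
        have hinj : Set.InjOn (fun m => σ^[m] τ) (Finset.range 5 : Set ℕ) := by
          intro i hi j hj hij
          simp only [Finset.coe_range, Set.mem_Iio] at hi hj
          exact Function.iterate_injOn_Iio_minimalPeriod (f := σ) (x := τ) (e ▸ hi) (e ▸ hj) hij
        have := Finset.card_le_card_of_injOn (fun m => σ^[m] τ) (fun _ _ => Finset.mem_univ _) hinj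
          (s := Finset.range 5) (t := (Finset.univ : Finset T))
        rw [Finset.card_range, Finset.card_univ, ← Nat.card_eq_fintype_card, hT] at this
        norm_num at this
    have hgC : g ∈ C := Subgroup.mem_centralizer_singleton_iff.2
      (mul_inv_eq_iff_eq_mul.1 (congrArg (fun a : T => (a.1 : Y)) hfix))
    have := orderOf_dvd_of_pow_eq_one (show g ^ 2 = 1 by rw [pow_two]; exact hsq t ht g hgC)
    rw [hg] at this
    norm_num at this
  · exact ⟨e⟩

end Recognition

/-- The standard alternating group. -/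
abbrev A5 : Type := ↥(alternatingGroup (Fin 5))

theorem a5_rot : ∀ a b : A5, a * a = 1 → b * b = 1 → a ≠ 1 → b ≠ 1 → a ≠ b → a * b = b * a →
    ∃ y : A5, y * y * y = 1 ∧ y ≠ 1 ∧ y * a * y⁻¹ = b ∧ y * b * y⁻¹ = a * b := by
  decide +kernel

theorem a5_inverter : ∀ y : A5, y * y * y = 1 → y ≠ 1 →
    ∃ s : A5, s * s = 1 ∧ s ≠ 1 ∧ s * y * s⁻¹ = y⁻¹ := by
  decide +kernel

theorem a5_cent_three : ∀ y : A5, y * y * y = 1 → y ≠ 1 → ∀ u : A5, u * y = y * u →
    u = 1 ∨ u = y ∨ u = y * y := by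
  decide +kernel

theorem a5_five : ∀ a y : A5, a * a = 1 → a ≠ 1 → y * y * y = 1 → y ≠ 1 →
    y * a * y⁻¹ ≠ a → (y * a * y⁻¹) * a = a * (y * a * y⁻¹) → ∀ s : A5, s * s = 1 → s ≠ 1 →
    s * y * s⁻¹ = y⁻¹ →
    ∃ t ∈ [a * s, a * s * y, a * s * y * y], t * t * t * t * t = 1 ∧ t ≠ 1 := by
  decide +kernel

variable {G : Type*} [Group G] [Finite G] {z : G} {Q : Subgroup G} {co : G → ℕ} {ac : G → ℕ → ℕ}
  {x n : G} {gen : ℕ → G} {w v g q r : G}

/-- `C(c)/⟨c⟩` for an element of the second kind. -/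
theorem quot_alt (d : Duo z Q co ac x n) {c : G} (hc : WT z c) :
    Nonempty (↥(Subgroup.centralizer ({c} : Set G)) ⧸ cycN c ≃* A5) := by
  obtain ⟨f, hf⟩ := Gen5.exists d
  have hB := fiveB d
  obtain ⟨hc5, v, hv, hcv⟩ := id hc
  have hN := cycN_le c
  have h5 := cycN_card c hc5
  have hbt : ∀ t : G, orderOf t = 2 → Commute c t → BT z t := fun t ht hct =>
    ⟨ht, fun e => hf.rt_wt_disjoint d ⟨hc5, t, e, hct⟩ hc⟩
  have hY : ∀ u : ↥(Subgroup.centralizer ({c} : Set G)) ⧸ cycN c, orderOf u = 2 →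
      Nat.card (Subgroup.centralizer ({u} : Set _)) = 4 := fun u hu => by
    obtain ⟨⟨t, htm⟩, ht, rfl⟩ := invol_lift h5 hu
    have e := cent_card hN h5 ht
    rw [Subgroup.orderOf_mk] at ht
    have htc : Commute c t := (Subgroup.mem_centralizer_singleton_iff.1 htm).symm
    rw [card_cent_sub c, hB.card t c (hbt t ht htc) hc5 htc] at e
    omega
  refine equiv_alt_of_four _ (invol_mk hN h5 (show orderOf (⟨v, Subgroup.mem_centralizer_singleton_iff.2 hcv.symm.eq⟩ :
      ↥(Subgroup.centralizer ({c} : Set G))) = 2 by rw [Subgroup.orderOf_mk]; exact hv.ord)) hY ?_ ?_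
  · intro u hu w hw
    obtain ⟨T, ht, rfl⟩ := invol_lift h5 hu
    have h4 := hY _ (invol_mk hN h5 ht)
    have hw4 : w ^ 4 = 1 := by
      have := pow_card_eq_one' (G := Subgroup.centralizer ({(T : _ ⧸ cycN c)} : Set _)) (x := ⟨w, hw⟩)
      rw [h4] at this
      exact congrArg Subtype.val this
    rw [cent_eq hN h5 ht] at hw
    obtain ⟨W, hW, rfl⟩ := hw
    have ht' : orderOf (T : G) = 2 := by rw [Subgroup.orderOf_coe]; exact ht
    have hTc : Commute c (T : G) := (Subgroup.mem_centralizer_singleton_iff.1 T.2).symm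
    have h10 := hB.exp (T : G) c (hbt _ ht' hTc) hc5 hTc (W : G) (mem_pair.2
      ⟨congrArg Subtype.val (Subgroup.mem_centralizer_singleton_iff.1 hW),
        Subgroup.mem_centralizer_singleton_iff.1 W.2⟩)
    have h10' : (W : ↥(Subgroup.centralizer ({c} : Set G))) ^ 10 = 1 := Subtype.ext (by simpa using h10)
    have := congrArg (QuotientGroup.mk' (cycN c)) h10'
    rw [map_pow, map_one, show (10 : ℕ) = 4 * 2 + 2 by rfl, pow_add, pow_mul, hw4, one_pow, one_mul,
      pow_two] at this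
    exact this
  · have := dvd_cent hc5 (hf.dvd_card d hB)
    rw [card_mul h5] at this
    omega

theorem three_fix {M : Type*} [Group M] {y : M} (h3 : y * y * y = 1) :
    y⁻¹ = y * y := inv_eq_of_mul_eq_one_right (by rw [← mul_assoc]; exact h3)

/-- The centraliser of `⟨z, b⟩` is `A₅`. -/
theorem exists_equiv_K (p : Pack z Q co ac x n gen w v g q r) {L : Subgroup G} (hL : Comp z w v L)
    {b : G} (hbL : b ∈ L) (hb2 : b * b = 1) (h5 : orderOf (z * b) = 5) :
    Nonempty (↥(Subgroup.centralizer ({z, b} : Set G)) ≃* A5) := by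
  classical
  have d := p.std.duo
  have hz2 : z * z = 1 := d.fr.es.sq
  have hzL : z ∈ L := hL.z_mem (p.CZ_le_CV p.z_mem)
  set c := z * b with hc
  have hcL : c ∈ L := mul_mem hzL hbL
  have hzc : z * c * z⁻¹ = c⁻¹ := by
    rw [inv_eq_of_mul_eq_one_right hz2, hc, mul_inv_rev, inv_eq_of_mul_eq_one_right hz2,
      inv_eq_of_mul_eq_one_right hb2, ← mul_assoc z z b, hz2, one_mul]
  obtain ⟨hcw, hcv⟩ := mem_cent_two.1 (hL.le hcL)
  obtain ⟨hvb, -, hvz, -, hvw⟩ := p.v_facts
  have hWT : WT z c := ⟨h5, v, hvb, hcv⟩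
  obtain ⟨φ⟩ := quot_alt d hWT
  set C := Subgroup.centralizer ({c} : Set G) with hC
  set N := cycN c with hNd
  have hN := cycN_le c
  have hN5 := cycN_card c h5
  have hmC : ∀ {u : G}, u ∈ C ↔ Commute u c := fun {u} => Subgroup.mem_centralizer_singleton_iff
  let π : ↥C →* A5 := φ.toMonoidHom.comp (QuotientGroup.mk' N)
  have hπ0 : ∀ u : ↥C, π u = 1 ↔ u ∈ N := fun u => by
    show φ (QuotientGroup.mk u) = 1 ↔ _
    rw [MulEquiv.map_eq_one_iff, QuotientGroup.eq_one_iff]
  have hπinj : ∀ u u' : ↥C, orderOf u = 2 → orderOf u' = 2 → π u = π u' → u = u' :=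
    fun u u' hu hu' h => invol_inj hN hN5 hu hu' (φ.injective h)
  have hπinv : ∀ t : A5, t * t = 1 → t ≠ 1 → ∃ u : ↥C, orderOf u = 2 ∧ π u = t := by
    intro t ht ht1
    have hy : orderOf (φ.symm t) = 2 := invol_iff.2
      ⟨by rw [← map_mul, ht, map_one], fun h => ht1 (by simpa using congrArg φ h)⟩
    obtain ⟨u, hu, hue⟩ := invol_lift hN5 hy
    exact ⟨u, hu, by
      show φ (QuotientGroup.mk u) = t
      rw [hue, MulEquiv.apply_symm_apply]⟩
  -- the images of the four-group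
  have hwo : orderOf (⟨w, hmC.2 hcw.symm⟩ : ↥C) = 2 := by rw [Subgroup.orderOf_mk]; exact p.bt_w.ord
  have hvo : orderOf (⟨v, hmC.2 hcv.symm⟩ : ↥C) = 2 := by rw [Subgroup.orderOf_mk]; exact hvb.ord
  have hπord : ∀ u : ↥C, orderOf u = 2 → π u * π u = 1 ∧ π u ≠ 1 := fun u hu => by
    refine invol_iff.1 ?_
    show orderOf (φ (QuotientGroup.mk u)) = 2
    rw [MulEquiv.orderOf_eq]
    exact invol_mk hN hN5 hu
  set wC : ↥C := ⟨w, hmC.2 hcw.symm⟩ with hwC
  set vC : ↥C := ⟨v, hmC.2 hcv.symm⟩ with hvC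
  obtain ⟨ha2, ha1⟩ := hπord wC hwo
  obtain ⟨hb2', hb1⟩ := hπord vC hvo
  have hwv : w ≠ v := fun e => p.bt_vw.ne_one (by rw [← e, p.bt_w.sq])
  have hab : π wC ≠ π vC := fun h => hwv (congrArg Subtype.val (hπinj _ _ hwo hvo h))
  have habc : π wC * π vC = π vC * π wC := by
    rw [← map_mul, ← map_mul]
    exact congrArg π (Subtype.ext hvw.eq.symm)
  obtain ⟨y, hy3, hy1, hya, hyb⟩ := a5_rot _ _ ha2 hb2' ha1 hb1 hab habc
  obtain ⟨yC, hyC⟩ : ∃ yC : ↥C, π yC = y := by
    obtain ⟨u, hu⟩ := QuotientGroup.mk'_surjective N (φ.symm y)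
    exact ⟨u, by
      show φ (QuotientGroup.mk' N u) = y
      rw [hu, MulEquiv.apply_symm_apply]⟩
  -- the rotation normalises the four-group
  have e1 : yC * wC * yC⁻¹ = vC :=
    hπinj _ _ (by rw [orderOf_conj_eq]; exact hwo) hvo (by rw [map_mul, map_mul, map_inv, hyC, hya])
  have hwvo : orderOf (wC * vC) = 2 := invol_iff.2
    ⟨Subtype.ext (by
      show w * v * (w * v) = 1
      rw [hvw.symm.eq]
      exact p.bt_vw.sq), fun h => p.bt_vw.ne_one (by
      rw [hvw.eq]
      exact congrArg Subtype.val h)⟩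
  have e2 : yC * vC * yC⁻¹ = wC * vC :=
    hπinj _ _ (by rw [orderOf_conj_eq]; exact hvo) hwvo
      (by rw [map_mul, map_mul, map_inv, map_mul, hyC, hyb])
  have e1' : (yC : G) * w * (yC : G)⁻¹ = v := congrArg Subtype.val e1
  have e2' : (yC : G) * v * (yC : G)⁻¹ = w * v := congrArg Subtype.val e2
  -- its conjugate of `z` is an involution of the complement inverting `c`
  set z' := (yC : G) * z * (yC : G)⁻¹ with hz'
  have hyc : Commute (yC : G) c := hmC.1 yC.2
  have hz'CV : z' ∈ CV w v := by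
    have h1 : Commute z' v := by
      have h := p.wz.symm.map (MulAut.conj (yC : G)).toMonoidHom
      simpa [e1', hz'] using h
    have h2 : Commute z' (w * v) := by
      have h := hvz.symm.map (MulAut.conj (yC : G)).toMonoidHom
      simpa [e2', hz'] using h
    refine mem_cent_two.2 ⟨?_, h1⟩
    have h3 := h2.mul_right h1
    rwa [mul_assoc, hvb.sq, mul_one] at h3
  have hz'L : z' ∈ L := hL.ztype z' hz'CV (isConj_iff.2 ⟨(yC : G), rfl⟩)
  have hz'c : z' * c * z'⁻¹ = c⁻¹ := by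
    have h : (yC : G) * c * (yC : G)⁻¹ = c := mul_inv_eq_iff_eq_mul.2 hyc.eq
    calc z' * c * z'⁻¹ = (yC : G) * (z * ((yC : G)⁻¹ * c * (yC : G)) * z⁻¹) * (yC : G)⁻¹ := by
          rw [hz']; group
      _ = (yC : G) * (z * c * z⁻¹) * (yC : G)⁻¹ := by
          rw [mul_assoc (yC : G)⁻¹ c, ← hyc.eq, inv_mul_cancel_left]
      _ = _ := by rw [hzc]; rw [← conj_inv, h]
  obtain ⟨i, hi⟩ : ∃ i : ℤ, z' = z * c ^ i := by
    have hu : Commute (z * z') c := by
      refine mul_inv_eq_iff_eq_mul.1 ?_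
      calc z * z' * c * (z * z')⁻¹ = z * (z' * c * z'⁻¹) * z⁻¹ := by group
        _ = (z * c * z⁻¹)⁻¹ := by rw [hz'c]; group
        _ = c := by rw [hzc, inv_inv]
    obtain ⟨a, ha, i, he⟩ := (p.mem_cent_wf (Or.inl rfl) hcw h5).1
      (mem_cent_two.2 ⟨(mem_cent_two.1 (hL.le (mul_mem hzL hz'L))).1, hu⟩)
    have ha1 : a = 1 := hL.inf a (by
      rw [show a = z * z' * (c ^ i)⁻¹ by rw [he]; group]
      exact mul_mem (mul_mem hzL hz'L) (inv_mem (zpow_mem hcL i))) ha
    refine ⟨i, ?_⟩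
    calc z' = z * z * z' := by rw [hz2, one_mul]
      _ = z * c ^ i := by rw [mul_assoc, he, ha1, one_mul]
  -- normalised, it commutes with `z`
  set y' := c ^ (3 * i) * (yC : G) with hy'
  have hc5 : c ^ (5 : ℤ) = 1 := by
    rw [show (5 : ℤ) = ((5 : ℕ) : ℤ) by norm_num, zpow_natCast, ← h5, pow_orderOf_eq_one]
  have hy'z : Commute y' z := by
    have hzz : z⁻¹ = z := inv_eq_of_mul_eq_one_right hz2
    have hconj : ∀ j : ℤ, c ^ j * z = z * c ^ (-j) := fun j => by
      have h : z * c ^ j * z⁻¹ = c ^ (-j) := by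
        rw [← conj_zpow, hzc, inv_zpow, zpow_neg]
      rw [← h, hzz]
      calc c ^ j * z = z * z * c ^ j * z := by rw [hz2, one_mul]
        _ = _ := by group
    refine mul_inv_eq_iff_eq_mul.1 ?_
    calc y' * z * y'⁻¹ = c ^ (3 * i) * z' * (c ^ (3 * i))⁻¹ := by rw [hy', hz']; group
      _ = c ^ (3 * i) * z * (c ^ i * (c ^ (3 * i))⁻¹) := by rw [hi]; group
      _ = z * (c ^ (-(3 * i)) * (c ^ i * (c ^ (3 * i))⁻¹)) := by rw [hconj, mul_assoc]
      _ = z := by
        rw [← zpow_neg, ← zpow_add, ← zpow_add, show -(3 * i) + (i + -(3 * i)) = 5 * (-i) by ring,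
          zpow_mul, hc5, one_zpow, mul_one]
  have hyC' : y' ∈ C := hmC.2 (((Commute.refl c).zpow_left _).mul_left hyc)
  have hπy : π ⟨y', hyC'⟩ = y := by
    have hcN : (⟨c, hmC.2 (Commute.refl c)⟩ : ↥C) ∈ N :=
      Subgroup.mem_subgroupOf.2 (Subgroup.mem_zpowers c)
    have e : (⟨y', hyC'⟩ : ↥C) = (⟨c, hmC.2 (Commute.refl c)⟩ : ↥C) ^ (3 * i) * yC :=
      Subtype.ext (by rw [Subgroup.coe_mul, Subgroup.coe_zpow])
    rw [e, map_mul, (hπ0 _).2 (zpow_mem hcN _), one_mul, hyC]
  -- an involution inverting the rotation commutes with `z`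
  have hzC : ∀ u : ↥C, z * (u : G) * z⁻¹ ∈ C := by
    intro u
    refine hmC.2 ?_
    have h := ((hmC.1 u.2).inv_right).map (MulAut.conj z).toMonoidHom
    simp only [MulEquiv.coe_toMonoidHom, MulAut.conj_apply] at h
    rwa [show z * c⁻¹ * z⁻¹ = c by rw [← conj_inv, hzc, inv_inv]] at h
  obtain ⟨s, hs2, hs1, hsy⟩ := a5_inverter y hy3 hy1
  obtain ⟨sC, hsCo, hsC⟩ := hπinv s hs2 hs1
  let β : ↥C →* A5 :=
    MonoidHom.mk' (fun u => π ⟨z * (u : G) * z⁻¹, hzC u⟩) fun u u' => by
      rw [← map_mul]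
      exact congrArg π (Subtype.ext (by simp [mul_assoc]))
  have hβy : β ⟨y', hyC'⟩ = y := by
    show π ⟨z * y' * z⁻¹, _⟩ = y
    rw [← hπy]
    exact congrArg π (Subtype.ext (mul_inv_eq_iff_eq_mul.2 hy'z.symm.eq))
  have hsCz : Commute (sC : G) z := by
    have hβinv : β sC * y * (β sC)⁻¹ = y⁻¹ := by
      have hk : sC * ⟨y', hyC'⟩ * sC⁻¹ * ⟨y', hyC'⟩ ∈ N := by
        rw [← hπ0, map_mul, map_mul, map_mul, map_inv, hπy, hsC, hsy, inv_mul_cancel]
      have h1 : β (sC * ⟨y', hyC'⟩ * sC⁻¹ * ⟨y', hyC'⟩) = 1 := by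
        refine (hπ0 _).2 (Subgroup.mem_subgroupOf.2 ?_)
        obtain ⟨j, hj⟩ := Subgroup.mem_zpowers_iff.1 (Subgroup.mem_subgroupOf.1 hk)
        show z * _ * z⁻¹ ∈ Subgroup.zpowers c
        rw [← hj, ← conj_zpow, hzc, inv_zpow]
        exact inv_mem (Subgroup.zpow_mem _ (Subgroup.mem_zpowers c) j)
      rw [map_mul, map_mul, map_mul, map_inv, hβy] at h1
      exact eq_inv_of_mul_eq_one_left h1
    have hu : s * β sC * y = y * (s * β sC) := by
      have h2 : β sC * y = y⁻¹ * β sC := mul_inv_eq_iff_eq_mul.1 hβinv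
      have h3 : s * y⁻¹ = y * s := by
        rw [mul_inv_eq_iff_eq_mul.1 (show s * y⁻¹ * s⁻¹ = y by rw [← conj_inv, hsy, inv_inv])]
      rw [mul_assoc, h2, ← mul_assoc, h3, mul_assoc]
    have hzo : orderOf (⟨z * (sC : G) * z⁻¹, hzC sC⟩ : ↥C) = 2 := by
      rw [Subgroup.orderOf_mk, orderOf_conj_eq, Subgroup.orderOf_coe]; exact hsCo
    have hss : β sC = s := by
      rcases a5_cent_three y hy3 hy1 _ hu with h | h | h
      · exact (eq_inv_of_mul_eq_one_right h).trans (inv_eq_of_mul_eq_one_right hs2)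
      · -- the square of the action is trivial
        exfalso
        refine hy1 ?_
        have hb : β sC = s * y := by rw [← h, ← mul_assoc, hs2, one_mul]
        obtain ⟨e, -⟩ := hπord _ hzo
        have hbz : β ⟨z * (sC : G) * z⁻¹, hzC sC⟩ = s := by
          rw [← hsC]
          refine congrArg π (Subtype.ext ?_)
          show z * (z * (sC : G) * z⁻¹) * z⁻¹ = sC
          rw [inv_eq_of_mul_eq_one_right hz2]
          calc z * (z * (sC : G) * z) * z = z * z * sC * (z * z) := by group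
            _ = sC := by rw [hz2]; simp
        have hk : (sC * ⟨y', hyC'⟩)⁻¹ * ⟨z * (sC : G) * z⁻¹, hzC sC⟩ ∈ N := by
          rw [← hπ0, map_mul, map_inv, map_mul, hsC, hπy]
          show (s * y)⁻¹ * β sC = 1
          rw [hb, inv_mul_cancel]
        have h1 : β ((sC * ⟨y', hyC'⟩)⁻¹ * ⟨z * (sC : G) * z⁻¹, hzC sC⟩) = 1 := by
          refine (hπ0 _).2 (Subgroup.mem_subgroupOf.2 ?_)
          obtain ⟨j, hj⟩ := Subgroup.mem_zpowers_iff.1 (Subgroup.mem_subgroupOf.1 hk)
          show z * _ * z⁻¹ ∈ Subgroup.zpowers c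
          rw [← hj, ← conj_zpow, hzc, inv_zpow]
          exact inv_mem (Subgroup.zpow_mem _ (Subgroup.mem_zpowers c) j)
        rw [map_mul, map_inv, map_mul, hβy, hb, hbz, inv_mul_eq_one, mul_assoc] at h1
        have h2 : y * y = 1 := mul_eq_left.1 h1
        rwa [h2, one_mul] at hy3
      · exfalso
        refine hy1 ?_
        have hb : β sC = s * (y * y) := by rw [← h, ← mul_assoc, hs2, one_mul]
        have hbz : β ⟨z * (sC : G) * z⁻¹, hzC sC⟩ = s := by
          rw [← hsC]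
          refine congrArg π (Subtype.ext ?_)
          show z * (z * (sC : G) * z⁻¹) * z⁻¹ = sC
          rw [inv_eq_of_mul_eq_one_right hz2]
          calc z * (z * (sC : G) * z) * z = z * z * sC * (z * z) := by group
            _ = sC := by rw [hz2]; simp
        have hk : (sC * (⟨y', hyC'⟩ * ⟨y', hyC'⟩))⁻¹ * ⟨z * (sC : G) * z⁻¹, hzC sC⟩ ∈ N := by
          rw [← hπ0, map_mul, map_inv, map_mul, map_mul, hsC, hπy]
          show (s * (y * y))⁻¹ * β sC = 1
          rw [hb, inv_mul_cancel]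
        have h1 : β ((sC * (⟨y', hyC'⟩ * ⟨y', hyC'⟩))⁻¹ * ⟨z * (sC : G) * z⁻¹, hzC sC⟩) = 1 := by
          refine (hπ0 _).2 (Subgroup.mem_subgroupOf.2 ?_)
          obtain ⟨j, hj⟩ := Subgroup.mem_zpowers_iff.1 (Subgroup.mem_subgroupOf.1 hk)
          show z * _ * z⁻¹ ∈ Subgroup.zpowers c
          rw [← hj, ← conj_zpow, hzc, inv_zpow]
          exact inv_mem (Subgroup.zpow_mem _ (Subgroup.mem_zpowers c) j)
        rw [map_mul, map_inv, map_mul, map_mul, hβy, hb, hbz, inv_mul_eq_one] at h1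
        have h2 : (y * y) * (y * y) = 1 := by
          refine (mul_eq_left (a := s)).1 ?_
          rw [← mul_assoc]
          exact h1
        rw [← mul_assoc, hy3, one_mul] at h2
        exact h2
    refine Commute.symm (mul_inv_eq_iff_eq_mul.1 ?_)
    exact congrArg Subtype.val (hπinj ⟨z * (sC : G) * z⁻¹, hzC sC⟩ sC hzo hsCo (hss.trans hsC.symm))
  -- the homomorphism on the centraliser of `z, b`
  set K := Subgroup.centralizer ({z, b} : Set G) with hK
  have hKC : K ≤ C := fun u hu => hmC.2 (by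
    obtain ⟨h1, h2⟩ := mem_pair.1 hu
    exact h1.mul_right h2)
  have hmK : ∀ u : G, u ∈ C → Commute u z → u ∈ K := fun u hu hz => mem_pair.2 ⟨hz, by
    have := hz.mul_right (hmC.1 hu)
    rwa [hc, ← mul_assoc, hz2, one_mul] at this⟩
  let ι : ↥K →* A5 := π.comp (Subgroup.inclusion hKC)
  have hinj : Function.Injective ι := by
    rw [injective_iff_map_eq_one]
    intro u hu
    obtain ⟨j, hj⟩ := Subgroup.mem_zpowers_iff.1 (Subgroup.mem_subgroupOf.1 ((hπ0 _).1 hu))
    have hzu : z * (u : G) * z⁻¹ = u := mul_inv_eq_iff_eq_mul.2 (mem_pair.1 u.2).1.symm.eq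
    have hj' : c ^ j = (u : G) := hj
    rw [← hj', ← conj_zpow, hzc, inv_zpow] at hzu
    refine Subtype.ext ?_
    rw [OneMemClass.coe_one, ← hj']
    have h2 : (c ^ j) ^ 2 = 1 := by
      rw [pow_two]
      nth_rw 1 [← hzu]
      exact inv_mul_cancel _
    have h5' : (c ^ j) ^ 5 = 1 := by
      rw [← zpow_natCast, ← zpow_mul, mul_comm, zpow_mul, show ((5 : ℕ) : ℤ) = 5 from rfl, hc5, one_zpow]
    rw [show (5 : ℕ) = 2 * 2 + 1 from rfl, pow_succ, pow_mul, h2, one_pow, one_mul] at h5'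
    exact h5'
  have m1 : ∀ u : ↥C, Commute (u : G) z → π u ∈ ι.range := fun u hu =>
    ⟨⟨u, hmK u u.2 hu⟩, rfl⟩
  have hwy : y * π wC * y⁻¹ ≠ π wC := by rw [hya]; exact hab.symm
  have hwyc : (y * π wC * y⁻¹) * π wC = π wC * (y * π wC * y⁻¹) := by rw [hya, habc]
  obtain ⟨t, htm, ht5, ht1⟩ := a5_five _ y ha2 ha1 hy3 hy1 hwy hwyc s hs2 hs1 hsy
  have mw : π wC ∈ ι.range := m1 wC p.wz
  have mv : π vC ∈ ι.range := m1 vC hvz
  have my : y ∈ ι.range := hπy ▸ m1 ⟨y', hyC'⟩ hy'z
  have ms : s ∈ ι.range := hsC ▸ m1 sC hsCz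
  have mt : t ∈ ι.range := by
    simp only [List.mem_cons, List.not_mem_nil, or_false] at htm
    rcases htm with rfl | rfl | rfl
    exacts [mul_mem mw ms, mul_mem (mul_mem mw ms) my, mul_mem (mul_mem (mul_mem mw ms) my) my]
  have h60 : Nat.card A5 = 60 := by rw [Nat.card_eq_fintype_card]; rfl
  have hdvd : ∀ {u : A5}, u ∈ ι.range → orderOf u ∣ Nat.card ι.range := fun {u} hu => by
    rw [← Subgroup.orderOf_mk u hu]; exact orderOf_dvd_natCard _
  have d3 : 3 ∣ Nat.card ι.range := by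
    haveI : Fact (Nat.Prime 3) := ⟨Nat.prime_three⟩
    have h := hdvd my
    rwa [orderOf_eq_prime (x := y) (p := 3) (by rw [pow_three, ← mul_assoc]; exact hy3) hy1] at h
  have d5 : 5 ∣ Nat.card ι.range := by
    haveI : Fact (Nat.Prime 5) := ⟨by norm_num⟩
    have h := hdvd mt
    rwa [orderOf_eq_prime (x := t) (p := 5) (by
      rw [pow_succ, pow_succ, pow_succ, pow_two]; exact ht5) ht1] at h
  have d4 : 4 ∣ Nat.card ι.range := by
    let V : Subgroup A5 :=
      { carrier := {1, π wC, π vC, π wC * π vC}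
        one_mem' := by simp
        mul_mem' := by
          rintro a b (rfl | rfl | rfl | rfl) (rfl | rfl | rfl | rfl) <;>
            simp only [Set.mem_insert_iff, Set.mem_singleton_iff, one_mul, mul_one, ha2, hb2', true_or,
              or_true, ← mul_assoc] <;>
            simp [habc, mul_assoc, ha2, hb2', ← mul_assoc (π vC) (π vC)]
        inv_mem' := by
          rintro a (rfl | rfl | rfl | rfl)
          · simp
          · simp [inv_eq_of_mul_eq_one_right ha2]
          · simp [inv_eq_of_mul_eq_one_right hb2']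
          · simp [inv_eq_of_mul_eq_one_right ha2, inv_eq_of_mul_eq_one_right hb2', habc] }
    have hV : Nat.card V = 4 := by
      show Nat.card ({1, π wC, π vC, π wC * π vC} : Set A5) = 4
      have n1 : π wC * π vC ≠ 1 := fun h =>
        hab ((eq_inv_of_mul_eq_one_left h).trans (inv_eq_of_mul_eq_one_right hb2'))
      rw [Nat.card_coe_set_eq, Set.ncard_insert_of_notMem, Set.ncard_insert_of_notMem,
        Set.ncard_pair] <;> simp [ha1.symm, hb1.symm, hab, ha1, hb1, n1.symm]
    rw [← hV]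
    refine Subgroup.card_dvd_of_le fun a ha => ?_
    rcases ha with rfl | rfl | rfl | rfl
    exacts [one_mem _, mw, mv, mul_mem mw mv]
  have htop : ι.range = ⊤ := by
    refine Subgroup.eq_top_of_card_eq _ ?_
    have := Subgroup.card_subgroup_dvd_card ι.range
    rw [h60] at this ⊢
    exact Nat.dvd_antisymm this (Nat.Coprime.mul_dvd_of_dvd_of_dvd (by norm_num : Nat.Coprime 12 5)
      (Nat.Coprime.mul_dvd_of_dvd_of_dvd (by norm_num : Nat.Coprime 4 3) d4 d3) d5)
  exact ⟨MulEquiv.ofBijective ι ⟨hinj, MonoidHom.range_eq_top.1 htop⟩⟩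

end Cfsg.Agent.Lib.SuzUniq99
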