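import Cfsg.Agent.Lib.SuzUniq99.Order
import Cfsg.Agent.Lib.SuzUniq99.Gens
import Cfsg.Agent.Lib.SuzUniq99.Hom
import Cfsg.Agent.S1694

/-!
# A group of Suzuki type is the presented Suzuki group

Owner: helper99.
-/

set_option autoImplicit false
set_option maxRecDepth 100000

namespace Cfsg.Agent.Lib.SuzUniq99

open Cfsg.Agent.Lib Cfsg.Agent.Lib.SuzType52 Cfsg.Agent.Lib.SuzSeven52
open Cfsg.Agent.Lib.Involutions.Basic
open Cfsg.Agent.Lib.SuzFive11 (mem_pair)

variable {G : Type*} [Group G] [Finite G] {z : G} {Q : Subgroup G} {co : G → ℕ} {ac : G → ℕ → ℕ}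
  {x n : G} {gen : ℕ → G} {w v g q r : G}

theorem evG_five {a b c f g : G} {l : List ℕ} (h : ∀ l ∈ relList5, evG [a, b, c, f, g] l = 1)
    (hl : l ∈ relList5 := by decide) : evG [a, b, c, f, g] l = 1 := h l hl

/-- The seven generators. -/
theorem exists_seven_gens (p : Pack z Q co ac x n gen w v g q r) :
    ∃ ψ : Cfsg.Spor.Suz →* G, ψ (PresentedGroup.of Cfsg.Spor.Suz.Gen.a) = z := by
  have dd := p.std.duo
  obtain ⟨L, hL⟩ := exists_comp p
  obtain ⟨ν, hν⟩ := exists_chart p hL
  obtain ⟨hbL, hb2, h5⟩ := exists_b p hν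
  obtain ⟨f₁, f₂, d, k, hsmall⟩ := exists_kfacts p hL hbL hb2 h5
  obtain ⟨c, f, g', F⟩ := exists_five p hL hν k hsmall
  set b := ν B0 with hb
  have mem : ∀ y ∈ ({z, b, c, f, g'} : Set G), y ∈ L := fun y hy => F.gen ▸ Subgroup.subset_closure hy
  obtain ⟨hdz, hdb⟩ := mem_pair.1 k.dK
  have hz2 : z * z = 1 := dd.fr.es.sq
  have hzw : Commute z w := p.wz.symm
  have hLw : ∀ y ∈ L, Commute y w := fun y hy => (mem_cent_two.1 (hL.le hy)).1
  have hcQ : c ∈ Q ∧ co c = 1 := by
    rcases F.cx with e | e <;> subst e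
    · exact ⟨dd.xQ, dd.cox⟩
    · exact ⟨mul_mem dd.xQ dd.fr.es.mem, by
        rw [dd.fr.co_mul _ dd.xQ _ dd.fr.es.mem, dd.cox, dd.fr.co_z]; rfl⟩
  have sq : ∀ i < 5, [z, b, c, f, g'].getD i 1 * [z, b, c, f, g'].getD i 1 = 1 := by
    intro i hi
    interval_cases i
    all_goals first
      | exact hz2
      | exact hb2
      | simpa [evG] using evG_five F.rels (l := [2, 2])
      | simpa [evG] using evG_five F.rels (l := [3, 3])
      | simpa [evG] using evG_five F.rels (l := [4, 4])
  have hc2 : c * c = 1 := sq 2 (by norm_num)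
  have hf2 : f * f = 1 := sq 3 (by norm_num)
  have hg2 : g' * g' = 1 := sq 4 (by norm_num)
  have hcomm : ∀ {u v : G}, u * u = 1 → v * v = 1 → u * v * (u * v) = 1 → Commute u v := fun {u v} hu hv h => by
    show u * v = v * u
    calc u * v = (u * v)⁻¹ := eq_inv_of_mul_eq_one_left h
      _ = v * u := by rw [mul_inv_rev, inv_eq_of_mul_eq_one_right hu, inv_eq_of_mul_eq_one_right hv]
  have hdc : (c * d) ^ 4 = z := by
    have hd' : d⁻¹ = d := inv_eq_of_mul_eq_one_right k.d2
    set c' := d * c * d⁻¹ with hc'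
    have hc'Q : c' ∈ Q := dd.fr.norm d hdz c hcQ.1
    have hco : co c' = ac d 1 := by rw [dd.fr.conj d hdz c hcQ.1, hcQ.2]
    have h := dd.fr.comm_Q hcQ.1 hc'Q
    rw [hcQ.2, hco, k.dx, inv_eq_of_mul_eq_one_right hc2] at h
    have hc'2 : c' * c' = 1 := by
      rw [hc', conj_mul, hc2, mul_one, mul_inv_cancel]
    have hzc : Commute z c' := (dd.fr.es.comm c' hc'Q).symm
    calc (c * d) ^ 4 = c * c' * c * c' := by
          rw [hc', hd']
          simp only [pow_succ, pow_zero, one_mul, mul_assoc]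
      _ = c' * pw z true * c' := by rw [h]
      _ = z := by
          show c' * z * c' = z
          rw [mul_assoc, hzc.eq, ← mul_assoc, hc'2, one_mul]
  have hgf : g' * f * (g' * f) = z := by
    have h := evG_five F.rels (l := [0, 4, 3, 4, 3])
    simp only [evG, List.foldr, List.getD_cons_zero, List.getD_cons_succ, mul_one] at h
    rw [mul_assoc]
    exact (eq_inv_of_mul_eq_one_right h).trans (inv_eq_of_mul_eq_one_right hz2)
  have haf : Commute z f := (dd.fr.es.comm f F.fQ.1).symm
  have H : Seven z b c d w f g' :=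
    { a2 := hz2
      b2 := hb2
      c2 := hc2
      d2 := k.d2
      e2 := p.bt_w.sq
      f2 := hf2
      g2 := hg2
      ab := by rw [← h5]; exact pow_orderOf_eq_one _
      bc := by simpa [evG, pow_succ, mul_assoc] using evG_five F.rels (l := [1, 2, 1, 2, 1, 2])
      cd := hdc
      de := by simpa [pow_succ, mul_assoc] using k.dw
      bf := by simpa [evG, pow_succ, mul_assoc] using evG_five F.rels (l := [1, 3, 1, 3, 1, 3])
      bg := by simpa [evG, pow_succ, mul_assoc] using evG_five F.rels (l := [1, 4, 1, 4, 1, 4])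
      fg := by
        rw [pow_two]
        calc f * g' * (f * g') = f * (g' * f * (g' * f)) * f⁻¹ := by group
          _ = z := by rw [hgf, mul_inv_eq_iff_eq_mul]; exact haf.symm.eq
      ac := (dd.fr.es.comm c hcQ.1).symm
      ad := hdz.symm
      ae := hzw
      af := haf
      ag := (dd.fr.es.comm g' F.fQ.2).symm
      bd := hdb.symm
      be := hLw b (mem b (by simp))
      ce := hLw c (mem c (by simp))
      cf := hcomm hc2 hf2 (by simpa [evG, mul_assoc] using evG_five F.rels (l := [2, 3, 2, 3]))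
      cg := hcomm hc2 hg2 (by simpa [evG, mul_assoc] using evG_five F.rels (l := [2, 4, 2, 4]))
      df := (F.comm d k.dK).1
      dg := (F.comm d k.dK).2
      ef := (hLw f (mem f (by simp))).symm
      eg := (hLw g' (mem g' (by simp))).symm
      abcf := by
        simpa [evG, pow_succ, mul_assoc] using
          evG_five F.rels (l := [0, 1, 2, 3, 0, 1, 2, 3, 0, 1, 2, 3, 0, 1, 2, 3, 0, 1, 2, 3])
      bfg := by
        simpa [evG, pow_succ, mul_assoc] using
          evG_five F.rels (l := [1, 3, 4, 1, 3, 4, 1, 3, 4, 1, 3, 4, 1, 3, 4])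
      abc := by
        simpa [evG, pow_succ, mul_assoc] using
          evG_five F.rels (l := [0, 1, 2, 0, 1, 2, 0, 1, 2, 0, 1, 2, 0, 1, 2]) }
  have hsimple : IsSimpleGroup L := by
    obtain ⟨e, -⟩ := hL.exists_equiv p
    obtain ⟨Fd, iF, iFin, hF, ⟨e'⟩⟩ := p.exists_psl'
    haveI : IsSimpleGroup (Matrix.ProjectiveSpecialLinearGroup (Fin 3) Fd) :=
      Linear.isSimpleGroup_PSL_of_three (by simp)
    exact (e.trans e').isSimpleGroup
  have hd : d * c * d⁻¹ ∉ L := by
    intro hm
    have hm' : d * c * d⁻¹ ∈ CZ z w v :=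
      mem_cent_three.2 ⟨dd.fr.es.comm _ (dd.fr.norm d hdz c hcQ.1), mem_cent_two.1 (hL.le hm)⟩
    have hb := (dd.fr.commute_Q (dd.fr.norm d hdz c hcQ.1) dd.xQ).1 (p.CZ_comm_x hm')
    rw [dd.fr.conj d hdz c hcQ.1, hcQ.2, dd.cox, bn_comm, k.dx] at hb
    exact Bool.true_eq_false.mp hb
  obtain ⟨h3, hcomm0⟩ := H.w_props hsimple F.gen hd
  have hne : (b * c * d * c * d) ^ 5 ≠ 1 := by
    refine H.w_ne fun y hy e => ?_
    have hyz : Commute y z := by
      have hle : Subgroup.closure ({d, w} : Set G) ≤ Subgroup.centralizer ({z} : Set G) := by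
        rw [Subgroup.closure_le]
        rintro y (rfl | rfl)
        · exact Subgroup.mem_centralizer_singleton_iff.2 hdz.eq
        · exact Subgroup.mem_centralizer_singleton_iff.2 p.wz.eq
      exact Subgroup.mem_centralizer_singleton_iff.1 (hle hy)
    subst e
    have h2 : (z * b) * (z * b) = 1 := by
      rw [mul_assoc, ← mul_assoc b z b, hyz.eq, mul_assoc z b b, hb2, mul_one, hz2]
    have := orderOf_dvd_of_pow_eq_one (show (z * b) ^ 2 = 1 by rw [pow_two]; exact h2)
    rw [h5] at this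
    norm_num at this
  set w₀ := (b * c * d * c * d) ^ 5 with hw0
  have hwK : w₀ ∈ Subgroup.centralizer ({z, b} : Set G) :=
    mem_pair.2 ⟨hcomm0 z (mem z (by simp)), hcomm0 b (mem b (by simp))⟩
  have hwx : Commute w₀ x := by
    have h1 := hcomm0 c (mem c (by simp))
    have h2 := hcomm0 z (mem z (by simp))
    rcases F.cx with e | e <;> rw [e] at h1
    · exact h1
    · have := h1.mul_right h2
      rwa [mul_assoc, hz2, mul_one] at this
  have hW : (w₀ * w) ^ 3 = 1 := by
    have := k.twelve w₀ hwK hwx (by simpa [pow_succ, mul_assoc] using h3) hne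
    simpa [pow_succ, mul_assoc] using this
  exact H.exists_suz_hom hW

/-- A group of Suzuki type is the presented group. -/
theorem iso_suz (p : Pack z Q co ac x n gen w v g q r)
    (hC : Nat.card (Subgroup.centralizer ({z} : Set G)) = 3317760) : Cfsg.Spor.IsoSuz G := by
  obtain ⟨hs, hcard⟩ := Cfsg.Agent.S1694.result
  obtain ⟨ψ, hψ⟩ := exists_seven_gens p
  haveI := hs
  have hinj : Function.Injective ψ := by
    rw [← MonoidHom.ker_eq_bot_iff]
    rcases (MonoidHom.normal_ker ψ).eq_bot_or_eq_top with h | h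
    · exact h
    · exfalso
      have : PresentedGroup.of Cfsg.Spor.Suz.Gen.a ∈ ψ.ker := h ▸ Subgroup.mem_top _
      rw [MonoidHom.mem_ker, hψ] at this
      exact p.std.duo.fr.es.ne this
  have hG := card_group p hC
  exact ⟨(MulEquiv.ofBijective ψ ((Nat.bijective_iff_injective_and_card ψ).2
    ⟨hinj, hcard.trans hG.symm⟩)).symm⟩

end Cfsg.Agent.Lib.SuzUniq99
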