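import Cfsg.Agent.Lib.Golay.PSL34
import Cfsg.Agent.Lib.Linear.Transvection

/-!
# The model `PSL(3, 4)` for five of the generators of the Suzuki group

Permutations of the 21 points as lists; a pair of involutions of the centraliser of the transvection
either gives a word leaving its dihedral group, or generates the group of one of three admissible pairs.

Owner: helper99.
-/

set_option autoImplicit false
set_option maxRecDepth 100000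

namespace Cfsg.Agent.Lib.SuzUniq99

open Cfsg.Agent.Lib.Golay.PSL34

/-- The permutation of the points as a list. -/
def pl (g : SL34) : List ℕ := List.ofFn fun i => (act g i).val

/-- Composition of lists. -/
def compL (p q : List ℕ) : List ℕ := q.map fun i => p.getD i 0

/-- The identity list. -/
def idL : List ℕ := List.range 21

theorem pl_mul (g h : SL34) : pl (g * h) = compL (pl g) (pl h) := by
  unfold pl compL
  rw [List.map_ofFn]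
  congr 1
  funext i
  rw [Function.comp_apply, List.getD_eq_getElem?_getD, List.getElem?_ofFn, dif_pos (act h i).isLt,
    Option.getD_some, act_mul]

theorem pl_one : pl (1 : SL34) = idL := by decide +kernel

theorem pl_eq_iff {g h : SL34} : pl g = pl h ↔ actHom g = actHom h := by
  constructor
  · intro e
    refine Equiv.ext fun i => Fin.ext ?_
    have e' := congrFun (List.ofFn_inj.1 e) i
    exact e'
  · intro e
    refine List.ofFn_inj.2 (funext fun i => ?_)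
    have e' := Equiv.congr_fun e i
    exact congrArg Fin.val e'

/-- A transvection. -/
def T (i j : Fin 3) (h : i ≠ j) (c : F4) : SL34 := Matrix.SpecialLinearGroup.transvection h c

/-- The transvection `a`. -/
def E0 : SL34 := T 0 2 (by decide) F4.l

/-- The transvection `b`. -/
def B0 : SL34 := T 2 0 (by decide) F4.w

/-- The element of the centraliser of `E0` with the given number. -/
def uu (i : ℕ) : SL34 :=
  T 0 2 (by decide) (F4.ofNum (i / 4 % 4)) * T 1 2 (by decide) (F4.ofNum (i % 4)) *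
    T 0 1 (by decide) (F4.ofNum (i / 16 % 4))

/-- The permutations of the upper unitriangular matrices. -/
def sList : List (List ℕ) := [
  [0, 1, 2, 3, 4, 5, 6, 7, 8, 9, 10, 11, 12, 13, 14, 15, 16, 17, 18, 19, 20],
  [2, 1, 0, 4, 3, 5, 10, 15, 20, 9, 6, 19, 16, 13, 18, 7, 12, 17, 14, 11, 8],
  [4, 1, 3, 2, 0, 5, 14, 19, 12, 9, 18, 15, 8, 13, 6, 11, 20, 17, 10, 7, 16],
  [3, 1, 4, 0, 2, 5, 18, 11, 16, 9, 14, 7, 20, 13, 10, 19, 8, 17, 6, 15, 12],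
  [6, 1, 10, 18, 14, 5, 0, 8, 7, 9, 2, 16, 19, 13, 4, 20, 11, 17, 3, 12, 15],
  [10, 1, 6, 14, 18, 5, 2, 20, 15, 9, 0, 12, 11, 13, 3, 8, 19, 17, 4, 16, 7],
  [14, 1, 18, 10, 6, 5, 4, 12, 19, 9, 3, 20, 7, 13, 0, 16, 15, 17, 2, 8, 11],
  [18, 1, 14, 6, 10, 5, 3, 16, 11, 9, 4, 8, 15, 13, 2, 12, 7, 17, 0, 20, 19],
  [8, 1, 20, 16, 12, 5, 7, 6, 0, 9, 15, 18, 4, 13, 19, 10, 3, 17, 11, 14, 2],
  [20, 1, 8, 12, 16, 5, 15, 10, 2, 9, 7, 14, 3, 13, 11, 6, 4, 17, 19, 18, 0],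
  [12, 1, 16, 20, 8, 5, 19, 14, 4, 9, 11, 10, 0, 13, 7, 18, 2, 17, 15, 6, 3],
  [16, 1, 12, 8, 20, 5, 11, 18, 3, 9, 19, 6, 2, 13, 15, 14, 0, 17, 7, 10, 4],
  [7, 1, 15, 11, 19, 5, 8, 0, 6, 9, 20, 3, 14, 13, 12, 2, 18, 17, 16, 4, 10],
  [15, 1, 7, 19, 11, 5, 20, 2, 10, 9, 8, 4, 18, 13, 16, 0, 14, 17, 12, 3, 6],
  [19, 1, 11, 15, 7, 5, 12, 4, 14, 9, 16, 2, 6, 13, 8, 3, 10, 17, 20, 0, 18],
  [11, 1, 19, 7, 15, 5, 16, 3, 18, 9, 12, 0, 10, 13, 20, 4, 6, 17, 8, 2, 14],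
  [0, 9, 10, 11, 12, 5, 6, 7, 8, 1, 2, 3, 4, 17, 19, 20, 18, 13, 16, 14, 15],
  [2, 9, 6, 19, 16, 5, 10, 15, 20, 1, 0, 4, 3, 17, 11, 8, 14, 13, 12, 18, 7],
  [4, 9, 18, 15, 8, 5, 14, 19, 12, 1, 3, 2, 0, 17, 7, 16, 10, 13, 20, 6, 11],
  [3, 9, 14, 7, 20, 5, 18, 11, 16, 1, 4, 0, 2, 17, 15, 12, 6, 13, 8, 10, 19],
  [6, 9, 2, 16, 19, 5, 0, 8, 7, 1, 10, 18, 14, 17, 12, 15, 3, 13, 11, 4, 20],
  [10, 9, 0, 12, 11, 5, 2, 20, 15, 1, 6, 14, 18, 17, 16, 7, 4, 13, 19, 3, 8],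
  [14, 9, 3, 20, 7, 5, 4, 12, 19, 1, 18, 10, 6, 17, 8, 11, 2, 13, 15, 0, 16],
  [18, 9, 4, 8, 15, 5, 3, 16, 11, 1, 14, 6, 10, 17, 20, 19, 0, 13, 7, 2, 12],
  [8, 9, 15, 18, 4, 5, 7, 6, 0, 1, 20, 16, 12, 17, 14, 2, 11, 13, 3, 19, 10],
  [20, 9, 7, 14, 3, 5, 15, 10, 2, 1, 8, 12, 16, 17, 18, 0, 19, 13, 4, 11, 6],
  [12, 9, 11, 10, 0, 5, 19, 14, 4, 1, 16, 20, 8, 17, 6, 3, 15, 13, 2, 7, 18],
  [16, 9, 19, 6, 2, 5, 11, 18, 3, 1, 12, 8, 20, 17, 10, 4, 7, 13, 0, 15, 14],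
  [7, 9, 20, 3, 14, 5, 8, 0, 6, 1, 15, 11, 19, 17, 4, 10, 16, 13, 18, 12, 2],
  [15, 9, 8, 4, 18, 5, 20, 2, 10, 1, 7, 19, 11, 17, 3, 6, 12, 13, 14, 16, 0],
  [19, 9, 16, 2, 6, 5, 12, 4, 14, 1, 11, 15, 7, 17, 0, 18, 20, 13, 10, 8, 3],
  [11, 9, 12, 0, 10, 5, 16, 3, 18, 1, 19, 7, 15, 17, 2, 14, 8, 13, 6, 20, 4],
  [0, 17, 20, 18, 19, 5, 6, 7, 8, 13, 15, 16, 14, 9, 12, 10, 11, 1, 3, 4, 2],
  [2, 17, 8, 14, 11, 5, 10, 15, 20, 13, 7, 12, 18, 9, 16, 6, 19, 1, 4, 3, 0],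
  [4, 17, 16, 10, 7, 5, 14, 19, 12, 13, 11, 20, 6, 9, 8, 18, 15, 1, 2, 0, 3],
  [3, 17, 12, 6, 15, 5, 18, 11, 16, 13, 19, 8, 10, 9, 20, 14, 7, 1, 0, 2, 4],
  [6, 17, 15, 3, 12, 5, 0, 8, 7, 13, 20, 11, 4, 9, 19, 2, 16, 1, 18, 14, 10],
  [10, 17, 7, 4, 16, 5, 2, 20, 15, 13, 8, 19, 3, 9, 11, 0, 12, 1, 14, 18, 6],
  [14, 17, 11, 2, 8, 5, 4, 12, 19, 13, 16, 15, 0, 9, 7, 3, 20, 1, 10, 6, 18],
  [18, 17, 19, 0, 20, 5, 3, 16, 11, 13, 12, 7, 2, 9, 15, 4, 8, 1, 6, 10, 14],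
  [8, 17, 2, 11, 14, 5, 7, 6, 0, 13, 10, 3, 19, 9, 4, 15, 18, 1, 16, 12, 20],
  [20, 17, 0, 19, 18, 5, 15, 10, 2, 13, 6, 4, 11, 9, 3, 7, 14, 1, 12, 16, 8],
  [12, 17, 3, 15, 6, 5, 19, 14, 4, 13, 18, 2, 7, 9, 0, 11, 10, 1, 20, 8, 16],
  [16, 17, 4, 7, 10, 5, 11, 18, 3, 13, 14, 0, 15, 9, 2, 19, 6, 1, 8, 20, 12],
  [7, 17, 10, 16, 4, 5, 8, 0, 6, 13, 2, 18, 12, 9, 14, 20, 3, 1, 11, 19, 15],
  [15, 17, 6, 12, 3, 5, 20, 2, 10, 13, 0, 14, 16, 9, 18, 8, 4, 1, 19, 11, 7],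
  [19, 17, 18, 20, 0, 5, 12, 4, 14, 13, 3, 10, 8, 9, 6, 16, 2, 1, 15, 7, 11],
  [11, 17, 14, 8, 2, 5, 16, 3, 18, 13, 4, 6, 20, 9, 10, 12, 0, 1, 7, 15, 19],
  [0, 13, 15, 16, 14, 5, 6, 7, 8, 17, 20, 18, 19, 1, 4, 2, 3, 9, 11, 12, 10],
  [2, 13, 7, 12, 18, 5, 10, 15, 20, 17, 8, 14, 11, 1, 3, 0, 4, 9, 19, 16, 6],
  [4, 13, 11, 20, 6, 5, 14, 19, 12, 17, 16, 10, 7, 1, 0, 3, 2, 9, 15, 8, 18],
  [3, 13, 19, 8, 10, 5, 18, 11, 16, 17, 12, 6, 15, 1, 2, 4, 0, 9, 7, 20, 14],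
  [6, 13, 20, 11, 4, 5, 0, 8, 7, 17, 15, 3, 12, 1, 14, 10, 18, 9, 16, 19, 2],
  [10, 13, 8, 19, 3, 5, 2, 20, 15, 17, 7, 4, 16, 1, 18, 6, 14, 9, 12, 11, 0],
  [14, 13, 16, 15, 0, 5, 4, 12, 19, 17, 11, 2, 8, 1, 6, 18, 10, 9, 20, 7, 3],
  [18, 13, 12, 7, 2, 5, 3, 16, 11, 17, 19, 0, 20, 1, 10, 14, 6, 9, 8, 15, 4],
  [8, 13, 10, 3, 19, 5, 7, 6, 0, 17, 2, 11, 14, 1, 12, 20, 16, 9, 18, 4, 15],
  [20, 13, 6, 4, 11, 5, 15, 10, 2, 17, 0, 19, 18, 1, 16, 8, 12, 9, 14, 3, 7],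
  [12, 13, 18, 2, 7, 5, 19, 14, 4, 17, 3, 15, 6, 1, 8, 16, 20, 9, 10, 0, 11],
  [16, 13, 14, 0, 15, 5, 11, 18, 3, 17, 4, 7, 10, 1, 20, 12, 8, 9, 6, 2, 19],
  [7, 13, 2, 18, 12, 5, 8, 0, 6, 17, 10, 16, 4, 1, 19, 15, 11, 9, 3, 14, 20],
  [15, 13, 0, 14, 16, 5, 20, 2, 10, 17, 6, 12, 3, 1, 11, 7, 19, 9, 4, 18, 8],
  [19, 13, 3, 10, 8, 5, 12, 4, 14, 17, 18, 20, 0, 1, 7, 11, 15, 9, 2, 6, 16],
  [11, 13, 4, 6, 20, 5, 16, 3, 18, 17, 14, 8, 2, 1, 15, 19, 7, 9, 0, 10, 12]]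

/-- The three admissible pairs, as positions. -/
def goodPairs : List (ℕ × ℕ) := [(13, 28), (14, 60), (15, 44)]

/-- Words for the transvections. -/
def trWords : List (List (List ℕ)) := [
  [[2, 4], [0, 1, 2, 4, 1, 0, 1, 2, 4, 1], [0, 1, 2, 1, 4, 1, 0, 1, 2, 1, 4, 1], [0], [0, 2], [2], [1, 2, 1, 0, 1, 2, 3, 1, 0, 2, 1, 3], [1, 2, 1, 3, 1, 2], [0, 1, 0, 1, 2, 3, 1, 0, 1, 0], [2, 3], [0, 1, 2, 3, 1, 0, 1, 2, 3, 1], [0, 1, 2, 1, 3, 1, 0, 1, 2, 1, 3, 1], [1, 2, 1, 0, 1, 2], [1], [2, 1, 0, 1, 2], [1, 2, 1, 0, 1, 2, 4, 1, 0, 2, 1, 4], [1, 2, 1, 4, 1, 2], [0, 1, 0, 1, 2, 4, 1, 0, 1, 0]],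
  [[0, 1, 2, 4, 1, 0, 1, 2, 4, 1], [0, 1, 2, 1, 4, 1, 0, 1, 2, 1, 4, 1], [2, 4], [0], [0, 2], [2], [0, 1, 0, 1, 2, 3, 1, 0, 1, 0], [1, 2, 1, 0, 1, 2, 3, 1, 0, 2, 1, 3], [1, 2, 1, 3, 1, 2], [0, 1, 2, 1, 3, 1, 0, 1, 2, 1, 3, 1], [2, 3], [0, 1, 2, 3, 1, 0, 1, 2, 3, 1], [1, 2, 1, 0, 1, 2], [1], [2, 1, 0, 1, 2], [1, 2, 1, 4, 1, 2], [0, 1, 0, 1, 2, 4, 1, 0, 1, 0], [1, 2, 1, 0, 1, 2, 4, 1, 0, 2, 1, 4]],
  [[0, 1, 2, 1, 4, 1, 0, 1, 2, 1, 4, 1], [2, 4], [0, 1, 2, 4, 1, 0, 1, 2, 4, 1], [0], [0, 2], [2], [1, 2, 1, 3, 1, 2], [0, 1, 0, 1, 2, 3, 1, 0, 1, 0], [1, 2, 1, 0, 1, 2, 3, 1, 0, 2, 1, 3], [0, 1, 2, 3, 1, 0, 1, 2, 3, 1], [0, 1, 2, 1, 3, 1, 0, 1, 2, 1, 3, 1], [2, 3], [1, 2, 1, 0, 1, 2], [1], [2, 1, 0, 1, 2], [0, 1, 0, 1, 2, 4, 1, 0, 1, 0], [1, 2, 1, 0, 1, 2, 4, 1, 0, 2, 1, 4], [1, 2, 1, 4, 1, 2]]]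

/-- The list of `E0`. -/
def aL : List ℕ := sList.getD 4 []
/-- The list of `B0`. -/
def bL : List ℕ := pl B0
/-- The list of the element with number `i`. -/
def sL (i : ℕ) : List ℕ := sList.getD i []

theorem sList_spec : (List.range 64).map (fun i => pl (uu i)) = sList := by decide +kernel

theorem sList_nodup : sList.Nodup := by decide +kernel

theorem pl_uu {i : ℕ} (hi : i < 64) : pl (uu i) = sL i := by
  rw [sL, ← sList_spec, List.getD_eq_getElem?_getD, List.getElem?_map, List.getElem?_range hi]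
  rfl

theorem pl_E0 : pl E0 = aL := by decide +kernel

/-- The product of a word in given elements. -/
def evL (e : List (List ℕ)) (l : List ℕ) : List ℕ := l.foldr (fun k acc => compL (e.getD k []) acc) idL

/-- The product of a word in a group. -/
def evG {M : Type*} [Monoid M] (e : List M) (l : List ℕ) : M := l.foldr (fun k acc => e.getD k 1 * acc) 1

theorem evG_cons {M : Type*} [Monoid M] (e : List M) (k : ℕ) (l : List ℕ) :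
    evG e (k :: l) = e.getD k 1 * evG e l := rfl

theorem evG_nil {M : Type*} [Monoid M] (e : List M) : evG e [] = 1 := rfl

theorem evG_map {M N : Type*} [Monoid M] [Monoid N] (φ : M →* N) (e : List M) (l : List ℕ) :
    φ (evG e l) = evG (e.map φ) l := by
  induction l with
  | nil => simp [evG_nil]
  | cons k l ih =>
    rw [evG_cons, evG_cons, map_mul, ih]
    congr 1
    rw [List.getD_eq_getElem?_getD, List.getD_eq_getElem?_getD, List.getElem?_map]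
    cases e[k]? <;> simp

theorem pl_evG (e : List SL34) (l : List ℕ) (hl : ∀ k ∈ l, k < e.length) :
    pl (evG e l) = evL (e.map pl) l := by
  induction l with
  | nil => exact pl_one
  | cons k l ih =>
    have hk := hl k List.mem_cons_self
    rw [evG_cons, pl_mul, ih fun x hx => hl x (List.mem_cons_of_mem _ hx), evL, evL, List.foldr_cons]
    congr 1
    rw [List.getD_eq_getElem?_getD, List.getD_eq_getElem?_getD, List.getElem?_map,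
      List.getElem?_eq_getElem hk]
    rfl

/-- The dihedral group of two involutions, as lists. -/
def dih (f g : List ℕ) : List (List ℕ) :=
  [idL, aL, f, g, compL f g, compL g f, compL (compL f g) f, compL (compL g f) g]

/-- A pair of numbers of involutions with product of square `a`. -/
def isPair (i j : ℕ) : Bool :=
  compL (sL i) (sL i) == idL && compL (sL j) (sL j) == idL &&
    compL (compL (sL i) (sL j)) (compL (sL i) (sL j)) == aL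

/-- The test word leaves the dihedral group. -/
def leaves (i j : ℕ) : Bool :=
  let d := dih (sL i) (sL j)
  d.any fun f => d.any fun g =>
    compL f f == idL && compL g g == idL && compL (compL f g) (compL f g) == aL &&
      let y := evL [aL, bL, idL, f, g] [1, 3, 1, 0, 1, 3, 1]
      sList.contains y && !(d.contains y)

/-- One of the admissible pairs lies in the dihedral group. -/
def admits (i j : ℕ) : Bool :=
  let d := dih (sL i) (sL j)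
  goodPairs.any fun p => d.contains (sL p.1) && d.contains (sL p.2)

theorem pairs_cases : (List.range 64).all (fun i => (List.range 64).all fun j =>
    !(isPair i j) || leaves i j || admits i j) = true := by
  decide +kernel

/-- The relators of the five generators. -/
def relList5 : List (List ℕ) :=
  [[0, 0], [1, 1], [2, 2], [3, 3], [4, 4], [0, 1, 0, 1, 0, 1, 0, 1, 0, 1], [1, 2, 1, 2, 1, 2],
    [1, 3, 1, 3, 1, 3], [1, 4, 1, 4, 1, 4], [3, 4, 3, 4, 3, 4, 3, 4], [0, 2, 0, 2], [0, 3, 0, 3],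
    [0, 4, 0, 4], [2, 3, 2, 3], [2, 4, 2, 4], [0, 4, 3, 4, 3],
    [0, 1, 2, 3, 0, 1, 2, 3, 0, 1, 2, 3, 0, 1, 2, 3, 0, 1, 2, 3],
    [1, 3, 4, 1, 3, 4, 1, 3, 4, 1, 3, 4, 1, 3, 4],
    [0, 1, 2, 0, 1, 2, 0, 1, 2, 0, 1, 2, 0, 1, 2]]

/-- The five generators of an admissible pair. -/
def genList (k : ℕ) : List ℕ := [(goodPairs.getD k (0, 0)).1, (goodPairs.getD k (0, 0)).2]

/-- The lists of the five generators of an admissible pair. -/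
def five (k : ℕ) : List (List ℕ) :=
  [aL, bL, sL 12, sL ((goodPairs.getD k (0, 0)).1), sL ((goodPairs.getD k (0, 0)).2)]

theorem five_rels : ∀ k < 3, ∀ l ∈ relList5, evL (five k) l = idL := by decide +kernel

theorem goodPairs_lt : goodPairs.length = 3 ∧ ∀ p ∈ goodPairs, p.1 < 64 ∧ p.2 < 64 := by decide +kernel

/-- The transvections as a list. -/
def trList : List SL34 :=
  [T 0 1 (by decide) F4.l, T 0 1 (by decide) F4.w, T 0 1 (by decide) F4.u,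
    T 0 2 (by decide) F4.l, T 0 2 (by decide) F4.w, T 0 2 (by decide) F4.u,
    T 1 0 (by decide) F4.l, T 1 0 (by decide) F4.w, T 1 0 (by decide) F4.u,
    T 1 2 (by decide) F4.l, T 1 2 (by decide) F4.w, T 1 2 (by decide) F4.u,
    T 2 0 (by decide) F4.l, T 2 0 (by decide) F4.w, T 2 0 (by decide) F4.u,
    T 2 1 (by decide) F4.l, T 2 1 (by decide) F4.w, T 2 1 (by decide) F4.u]

theorem five_generate : ∀ k < 3,
    (trWords.getD k []).map (evL (five k)) = trList.map pl := by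
  decide +kernel

theorem trWords_lt : ∀ ws ∈ trWords, ∀ w ∈ ws, ∀ g ∈ w, g < 5 := by decide +kernel

theorem mem_trList : ∀ (i j : Fin 3) (h : i ≠ j) (c : F4), c ≠ 0 →
    pl (Matrix.SpecialLinearGroup.transvection h c) ∈ trList.map pl := by decide +kernel

theorem central_cases : ∀ i < 64, (∀ j < 64, compL (sL i) (sL j) = compL (sL j) (sL i)) →
    i = 0 ∨ i = 4 ∨ i = 8 ∨ i = 12 := by decide +kernel

theorem twelve_shift : compL (sL 8) aL = sL 12 ∧ compL (sL 12) aL = sL 8 ∧ sL 0 = idL ∧ sL 4 = aL := by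
  decide +kernel

theorem base_facts : compL bL bL = idL ∧ evL [aL, bL] [0, 1, 0, 1, 0, 1, 0, 1, 0, 1] = idL ∧
    compL aL bL ≠ idL ∧ bL ≠ idL ∧ aL ≠ idL := by decide +kernel

end Cfsg.Agent.Lib.SuzUniq99
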