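import Cfsg.Agent.Lib.SuzTypeCount11.Main
import Cfsg.Agent.Lib.SuzSeven52.Card
import Cfsg.Agent.Lib.SuzType52.Setup

/-!
# Suzuki type: the order of the group

The centraliser of `z` has order `3317760`, that of an involution of the second class `161280`, so the
incidence of the two classes gives `315` conjugates of `z` in the latter and the Thompson formula
gives the order.

Owner: helper99.
-/

set_option autoImplicit false

namespace Cfsg.Agent.Lib.SuzUniq99

open Cfsg.Agent.Lib.SuzType52 Cfsg.Agent.Lib.Extraspecial Cfsg.Agent.Lib.Extraspecial.OutModel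
open Cfsg.Agent.Lib.Involutions.Basic Cfsg.Agent.Lib.Involutions.Thompson

theorem card_centralizer_z {G : Type*} [Group G] [Finite G] (z : G)
    (Q : Subgroup (Subgroup.centralizer ({z} : Set G))) [Q.Normal] (hcard : Nat.card Q = 2 ^ 7)
    (e : (Subgroup.centralizer ({z} : Set G)) ⧸ Q ≃*
      Cfsg.Omega (ZMod 2) (Cfsg.quadFormMinus 2 (ZMod 2) 1 1)) :
    Nat.card (Subgroup.centralizer ({z} : Set G)) = 3317760 := by
  rw [Subgroup.card_eq_card_quotient_mul_card_subgroup Q, hcard, Nat.card_congr e.toEquiv, ← qf_minus,
    card_omega6]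
  norm_num

variable {G : Type*} [Group G] [Finite G] {z : G} {Q : Subgroup G} {co : G → ℕ} {ac : G → ℕ → ℕ}
  {x n : G} {gen : ℕ → G} {w v g q r : G}

/-- The order of the group. -/
theorem card_group (p : SuzSeven52.Pack z Q co ac x n gen w v g q r)
    (hC : Nat.card (Subgroup.centralizer ({z} : Set G)) = 3317760) :
    Nat.card G = 448345497600 := by
  have d := p.std.duo
  obtain ⟨b, hb, hb2, hbQ⟩ := d.exists_form
  obtain ⟨hb1, hnot, -⟩ := d.b_type hb hb2 hbQ
  obtain ⟨X, N, -, hN, h1, -, hG⟩ := d.thompson_data hb hb2 hbQ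
  obtain ⟨c, hc⟩ := isConj_iff.1 (p.bt_w.isConj d ⟨orderOf_two hb2 hb1, hnot⟩)
  have hCb : Nat.card (Subgroup.centralizer ({b} : Set G)) = 161280 := by
    have e : Subgroup.centralizer ({b} : Set G) =
        (Subgroup.centralizer ({w} : Set G)).map (MulAut.conj c).toMonoidHom := by
      ext y
      rw [Subgroup.mem_map_equiv, Subgroup.mem_centralizer_singleton_iff,
        Subgroup.mem_centralizer_singleton_iff, ← hc]
      simp only [MulAut.conj_symm_apply]
      constructor
      · intro h
        calc c⁻¹ * y * c * w = c⁻¹ * (y * (c * w * c⁻¹)) * c := by group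
          _ = c⁻¹ * (c * w * c⁻¹ * y) * c := by rw [h]
          _ = w * (c⁻¹ * y * c) := by group
      · intro h
        calc y * (c * w * c⁻¹) = c * (c⁻¹ * y * c * w) * c⁻¹ := by group
          _ = c * (w * (c⁻¹ * y * c)) * c⁻¹ := by rw [h]
          _ = c * w * c⁻¹ * y := by group
    rw [e, Subgroup.card_map_of_injective (MulAut.conj c).injective, p.card_CW]
  have cz := card_class_mul z
  have cb := card_class_mul b
  rw [hC] at cz hG
  rw [hCb] at cb hG
  generalize Nat.card {u : G // IsConj z u} = A at *
  generalize Nat.card {u : G // IsConj b u} = B at *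
  have hpos : 0 < Nat.card G := Nat.card_pos
  have hX : X = 315 := by
    rcases Nat.eq_zero_or_pos A with hA | hA
    · exfalso
      rw [hA, zero_mul] at cz
      exact absurd cz.symm (Nat.pos_iff_ne_zero.1 hpos)
    · have h2 : A * (161280 * 6480) = A * (3317760 * X) := by
        have : B * X * 161280 = A * (3317760 * X) := by
          calc B * X * 161280 = B * 161280 * X := by ring
            _ = A * 3317760 * X := by rw [cb, ← cz]
            _ = _ := by ring
        rw [← this, ← h1]
        ring
      have := Nat.eq_of_mul_eq_mul_left hA h2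
      omega
  subst hX
  obtain rfl : N = 193 := by omega
  rw [hG]

end Cfsg.Agent.Lib.SuzUniq99
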